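import Groth.Agent.DefGlueLib.Glue
import Mathlib.AlgebraicGeometry.Morphisms.FlatDescent

/-!
# The deformation functor: glueing classes, the criterion for bijective comparison maps
-/

set_option autoImplicit false
set_option maxHeartbeats 1000000
set_option linter.unusedSectionVars false
set_option backward.isDefEq.respectTransparency false

universe u

open CategoryTheory CategoryTheory.Limits AlgebraicGeometry

noncomputable section

namespace DefGlueLib

open ArtFun

variable {Λ k : Type u} [CommRing Λ] [Field k] [Algebra Λ k] {X : Scheme.{u}} {x : X ⟶ Art.specPt k}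

theorem flat_of_specPt {Y : Scheme.{u}} (y : Y ⟶ Art.specPt k) : Flat y := by infer_instance

/-- Deformations over the final object are isomorphic. -/
theorem nonempty_iso_base (ξ ξ' : DefSch (Λ := Λ) X x (Art.base Λ k)) : Nonempty (ξ.Iso ξ') := by
  haveI : IsIso ξ.i := ξ.isPullback.isIso_fst_of_isIso
  refine ⟨isoOfHom ξ (inv ξ.i ≫ ξ'.i) ?_ ?_⟩
  · rw [Category.assoc, ξ'.i_f]
    exact (IsIso.inv_comp_eq ξ.i).2 ξ.i_f.symm
  · rw [IsIso.hom_inv_id_assoc]

theorem h0_defFunctor : H0 (defFunctor (Λ := Λ) X x) := by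
  refine ⟨⟨(DefSch.self (Λ := Λ) X x (flat_of_specPt x)).cl⟩, ⟨fun a b => ?_⟩⟩
  induction a using Quotient.inductionOn with
  | h ξ =>
    induction b using Quotient.inductionOn with
    | h ξ' => exact Quotient.sound (nonempty_iso_base ξ ξ')

/-- Isomorphisms of deformations are determined by the underlying morphism. -/
theorem iso_ext {A : Art Λ k} {ξ ξ' : DefSch (Λ := Λ) X x A} {a b : ξ.Iso ξ'} (h : a.iso.hom = b.iso.hom) : a = b := by
  obtain ⟨a, _, _⟩ := a
  obtain ⟨b, _, _⟩ := b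
  congr 1
  exact CategoryTheory.Iso.ext h

theorem baseChange_trans_hom {A A' : Art Λ k} (g : A ⟶ A') {ξ ξ' ξ'' : DefSch (Λ := Λ) X x A} (a : ξ.Iso ξ')
    (b : ξ'.Iso ξ'') : ((a.trans b).baseChange g).iso.hom = (a.baseChange g).iso.hom ≫ (b.baseChange g).iso.hom := by
  apply pullback.hom_ext
  · show DefSch.pullMap (a.iso.hom ≫ b.iso.hom) (a.trans b).hom_f g ≫ _ =
      (DefSch.pullMap a.iso.hom a.hom_f g ≫ DefSch.pullMap b.iso.hom b.hom_f g) ≫ _
    simp
  · show DefSch.pullMap (a.iso.hom ≫ b.iso.hom) (a.trans b).hom_f g ≫ _ =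
      (DefSch.pullMap a.iso.hom a.hom_f g ≫ DefSch.pullMap b.iso.hom b.hom_f g) ≫ _
    simp

section Square

variable {B A A₁ A₂ : Art Λ k} {p₁ : B ⟶ A₁} {p₂ : B ⟶ A₂} {f₁ : A₁ ⟶ A} {f₂ : A₂ ⟶ A}

/-- The comparison map is surjective along surjections. -/
theorem cmp_surjective (h : Art.IsFibreProd p₁ p₂ f₁ f₂) (hf : Function.Surjective f₂) :
    Function.Surjective (cmp (defFunctor (Λ := Λ) X x) h) := by
  rintro ⟨⟨z₁, z₂⟩, hz⟩
  induction z₁ using Quotient.inductionOn with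
  | h ξ₁ =>
    induction z₂ using Quotient.inductionOn with
    | h ξ₂ =>
      obtain ⟨e⟩ : Nonempty ((ξ₁.baseChange f₁).Iso (ξ₂.baseChange f₂)) :=
        Quotient.exact (show (ξ₁.baseChange f₁).cl = (ξ₂.baseChange f₂).cl from hz)
      let D : Pair X x p₁ p₂ f₁ f₂ :=
        { ξ := ξ₁.baseChange f₁
          ξ₁ := ξ₁
          ξ₂ := ξ₂
          q₁ := pullback.fst _ _
          q₂ := e.iso.hom ≫ pullback.fst _ _
          i₁ := DefSch.baseChange_i_fst ξ₁ f₁
          i₂ := by rw [← Category.assoc, e.i_hom, DefSch.baseChange_i_fst]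
          over₁ := pullback.condition
          over₂ := by
            rw [Category.assoc, pullback.condition, ← Category.assoc]
            exact congrArg (· ≫ Art.specMap f₂) e.hom_f
          fp := h
          surj := hf }
      refine ⟨(glue D).cl, FibProd.ext ?_ ?_⟩
      · exact Quotient.sound (nonempty_iso₁ D)
      · exact Quotient.sound (nonempty_iso₂ D)

/-- Two compatible maps from the corners show two deformations over the fibre product isomorphic. -/
theorem nonempty_iso_of_pair (D : Pair X x p₁ p₂ f₁ f₂) (η η' : DefSch (Λ := Λ) X x B)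
    (r₁ : D.ξ₁.total ⟶ η.total) (r₂ : D.ξ₂.total ⟶ η.total) (h₁ : D.ξ₁.i ≫ r₁ = η.i) (h₂ : D.ξ₂.i ≫ r₂ = η.i)
    (o₁ : r₁ ≫ η.f = D.ξ₁.f ≫ Art.specMap p₁) (o₂ : r₂ ≫ η.f = D.ξ₂.f ≫ Art.specMap p₂)
    (hq : D.q₁ ≫ r₁ = D.q₂ ≫ r₂)
    (r₁' : D.ξ₁.total ⟶ η'.total) (r₂' : D.ξ₂.total ⟶ η'.total) (h₁' : D.ξ₁.i ≫ r₁' = η'.i)
    (h₂' : D.ξ₂.i ≫ r₂' = η'.i) (o₁' : r₁' ≫ η'.f = D.ξ₁.f ≫ Art.specMap p₁)
    (o₂' : r₂' ≫ η'.f = D.ξ₂.f ≫ Art.specMap p₂) (hq' : D.q₁ ≫ r₁' = D.q₂ ≫ r₂') :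
    Nonempty (η.Iso η') := by
  obtain ⟨e⟩ := nonempty_iso_glue D η r₁ r₂ h₁ h₂ o₁ o₂ hq
  obtain ⟨e'⟩ := nonempty_iso_glue D η' r₁' r₂' h₁' h₂' o₁' o₂' hq'
  exact ⟨e.symm.trans e'⟩

/-- The map to the total space given by an isomorphism with a base change. -/
def toTotal {η : DefSch (Λ := Λ) X x B} {μ : B ⟶ A₁} {ξ : DefSch (Λ := Λ) X x A₁} (e : ξ.Iso (η.baseChange μ)) :
    ξ.total ⟶ η.total :=
  e.iso.hom ≫ pullback.fst η.f (Art.specMap μ)

lemma toTotal_i {η : DefSch (Λ := Λ) X x B} {μ : B ⟶ A₁} {ξ : DefSch (Λ := Λ) X x A₁} (e : ξ.Iso (η.baseChange μ)) :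
    ξ.i ≫ toTotal e = η.i := by
  rw [toTotal, ← Category.assoc, e.i_hom, DefSch.baseChange_i_fst]

lemma toTotal_f {η : DefSch (Λ := Λ) X x B} {μ : B ⟶ A₁} {ξ : DefSch (Λ := Λ) X x A₁} (e : ξ.Iso (η.baseChange μ)) :
    toTotal e ≫ η.f = ξ.f ≫ Art.specMap μ := by
  rw [toTotal, Category.assoc, pullback.condition, ← Category.assoc]
  exact congrArg (· ≫ Art.specMap μ) e.hom_f

end Square

/-- Maps over a change of rings under the closed fibre differ by an automorphism. -/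
theorem exists_aut {A B : Art Λ k} {μ : B ⟶ A} {ξ : DefSch (Λ := Λ) X x A} {η : DefSch (Λ := Λ) X x B}
    (a b : ξ.total ⟶ η.total) (ha : ξ.i ≫ a = η.i) (hb : ξ.i ≫ b = η.i) (oa : a ≫ η.f = ξ.f ≫ Art.specMap μ)
    (ob : b ≫ η.f = ξ.f ≫ Art.specMap μ) : ∃ s : ξ.Iso ξ, s.iso.hom ≫ b = a := by
  have key : ∀ (c : ξ.total ⟶ η.total) (hc : ξ.i ≫ c = η.i) (oc : c ≫ η.f = ξ.f ≫ Art.specMap μ),
      ∃ e : ξ.Iso (η.baseChange μ), toTotal e = c := fun c hc oc => by
    refine ⟨isoOfHom ξ (ξ' := η.baseChange μ) (pullback.lift c ξ.f oc) (pullback.lift_snd _ _ _) ?_, ?_⟩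
    · apply pullback.hom_ext
      · rw [Category.assoc, pullback.lift_fst, hc, DefSch.baseChange_i_fst]
      · rw [Category.assoc, pullback.lift_snd, ξ.i_f]
        exact (DefSch.baseChange_i_f η μ).symm
    · exact pullback.lift_fst _ _ _
  obtain ⟨ea, rfl⟩ := key a ha oa
  obtain ⟨eb, rfl⟩ := key b hb ob
  refine ⟨ea.trans eb.symm, ?_⟩
  show (ea.iso.hom ≫ eb.iso.inv) ≫ eb.iso.hom ≫ _ = ea.iso.hom ≫ _
  rw [Category.assoc, Iso.inv_hom_id_assoc]

/-- Endomorphisms over the base of a deformation are determined by a map over a change of rings. -/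
theorem cancel_toTotal {A B : Art Λ k} {μ : B ⟶ A} {ξ : DefSch (Λ := Λ) X x A} {η : DefSch (Λ := Λ) X x B}
    (b : ξ.total ⟶ η.total) (hb : ξ.i ≫ b = η.i) (ob : b ≫ η.f = ξ.f ≫ Art.specMap μ) {T : Scheme.{u}}
    (s t : T ⟶ ξ.total) (hf : s ≫ ξ.f = t ≫ ξ.f) (h : s ≫ b = t ≫ b) : s = t := by
  have : IsIso (pullback.lift b ξ.f ob : ξ.total ⟶ pullback η.f (Art.specMap μ)) := by
    refine isIso_of_hom ξ (ξ' := η.baseChange μ) _ (pullback.lift_snd _ _ _) ?_
    apply pullback.hom_ext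
    · rw [Category.assoc, pullback.lift_fst, hb, DefSch.baseChange_i_fst]
    · rw [Category.assoc, pullback.lift_snd, ξ.i_f]
      exact (DefSch.baseChange_i_f η μ).symm
  rw [← cancel_mono (pullback.lift b ξ.f ob)]
  apply pullback.hom_ext
  · rw [Category.assoc, Category.assoc, pullback.lift_fst, h]
  · rw [Category.assoc, Category.assoc, pullback.lift_snd, hf]

section Square

variable {B A A₁ A₂ : Art Λ k} {p₁ : B ⟶ A₁} {p₂ : B ⟶ A₂} {f₁ : A₁ ⟶ A} {f₂ : A₂ ⟶ A}

/-- If automorphisms lift along the second map then the comparison map is injective. -/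
theorem cmp_injective (h : Art.IsFibreProd p₁ p₂ f₁ f₂) (hf : Function.Surjective f₂)
    (haut : ∀ ξ' : DefSch (Λ := Λ) X x A₂, Function.Surjective (fun e : ξ'.Iso ξ' => e.baseChange f₂)) :
    Function.Injective (cmp (defFunctor (Λ := Λ) X x) h) := by
  intro z z' hz
  induction z using Quotient.inductionOn with
  | h η =>
    induction z' using Quotient.inductionOn with
    | h η' =>
      refine Quotient.sound ?_
      obtain ⟨e₁⟩ : Nonempty ((η.baseChange p₁).Iso (η'.baseChange p₁)) :=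
        Quotient.exact (congrArg (fun t => t.1.1) hz)
      obtain ⟨e₂⟩ : Nonempty ((η.baseChange p₂).Iso (η'.baseChange p₂)) :=
        Quotient.exact (congrArg (fun t => t.1.2) hz)
      have hw : Art.specMap f₁ ≫ Art.specMap p₁ = Art.specMap f₂ ≫ Art.specMap p₂ := by
        rw [← Art.specMap_comp, ← Art.specMap_comp, h.w]
      let Z : DefSch (Λ := Λ) X x A := (η.baseChange p₂).baseChange f₂
      let q₂ : Z.total ⟶ (η.baseChange p₂).total := pullback.fst _ _
      have hq₂ : q₂ ≫ (η.baseChange p₂).f = Z.f ≫ Art.specMap f₂ := pullback.condition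
      have hiq₂ : Z.i ≫ q₂ = (η.baseChange p₂).i := DefSch.baseChange_i_fst _ _
      have hl : (q₂ ≫ pullback.fst η.f (Art.specMap p₂)) ≫ η.f = (Z.f ≫ Art.specMap f₁) ≫ Art.specMap p₁ := by
        rw [Category.assoc, pullback.condition, reassoc_of% hq₂, Category.assoc, hw]
      let q₁ : Z.total ⟶ (η.baseChange p₁).total :=
        pullback.lift (q₂ ≫ pullback.fst η.f (Art.specMap p₂)) (Z.f ≫ Art.specMap f₁) hl
      have hiq₁ : Z.i ≫ q₁ = (η.baseChange p₁).i := by
        apply pullback.hom_ext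
        · rw [Category.assoc, pullback.lift_fst, reassoc_of% hiq₂, DefSch.baseChange_i_fst, DefSch.baseChange_i_fst]
        · rw [Category.assoc, pullback.lift_snd, reassoc_of% Z.i_f, Art.specRes_comp]
          exact (DefSch.baseChange_i_f η p₁).symm
      have hq₁ : q₁ ≫ (η.baseChange p₁).f = Z.f ≫ Art.specMap f₁ := pullback.lift_snd _ _ _
      obtain ⟨s, hs⟩ := exists_aut (μ := p₂ ≫ f₂) (ξ := Z) (η := η') (q₁ ≫ toTotal e₁) (q₂ ≫ toTotal e₂)
        (by rw [reassoc_of% hiq₁]; exact toTotal_i e₁) (by rw [reassoc_of% hiq₂]; exact toTotal_i e₂)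
        (by rw [Category.assoc, toTotal_f, reassoc_of% hq₁, Art.specMap_comp, hw])
        (by rw [Category.assoc, toTotal_f, reassoc_of% hq₂, Art.specMap_comp])
      obtain ⟨s', hs'⟩ := haut (η.baseChange p₂) s
      have hs'' : q₂ ≫ s'.iso.hom = s.iso.hom ≫ q₂ := by
        rw [← hs']
        exact (DefSch.pullMap_fst s'.iso.hom s'.hom_f f₂).symm
      let D : Pair X x p₁ p₂ f₁ f₂ :=
        { ξ := Z
          ξ₁ := η.baseChange p₁
          ξ₂ := η.baseChange p₂
          q₁ := q₁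
          q₂ := q₂
          i₁ := hiq₁
          i₂ := hiq₂
          over₁ := hq₁
          over₂ := hq₂
          fp := h
          surj := hf }
      refine nonempty_iso_of_pair D η η' (pullback.fst η.f (Art.specMap p₁)) (pullback.fst η.f (Art.specMap p₂))
        (DefSch.baseChange_i_fst η p₁) (DefSch.baseChange_i_fst η p₂) pullback.condition pullback.condition
        (pullback.lift_fst _ _ _) (toTotal e₁) (toTotal (s'.trans e₂)) (toTotal_i e₁) (toTotal_i _)
        (toTotal_f e₁) (toTotal_f _) ?_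
      show q₁ ≫ toTotal e₁ = q₂ ≫ (s'.iso.hom ≫ e₂.iso.hom) ≫ pullback.fst η'.f (Art.specMap p₂)
      rw [← Category.assoc q₂, ← Category.assoc q₂, hs'', Category.assoc, Category.assoc, ← hs]
      rfl

/-- If the comparison map of a self fibre product is injective, automorphisms lift. -/
theorem aut_surjective {A' : Art Λ k} {p : A' ⟶ A} {q q' : B ⟶ A'} (h : Art.IsFibreProd q q' p p)
    (hp : Function.Surjective p) (hinj : Function.Injective (cmp (defFunctor (Λ := Λ) X x) h))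
    (ξ' : DefSch (Λ := Λ) X x A') : Function.Surjective (fun e : ξ'.Iso ξ' => e.baseChange p) := by
  intro θ
  let Z : DefSch (Λ := Λ) X x A := ξ'.baseChange p
  let π : Z.total ⟶ ξ'.total := pullback.fst _ _
  have hπi : Z.i ≫ π = ξ'.i := DefSch.baseChange_i_fst ξ' p
  have hπ : π ≫ ξ'.f = Z.f ≫ Art.specMap p := pullback.condition
  let D₀ : Pair X x q q' p p :=
    { ξ := Z
      ξ₁ := ξ'
      ξ₂ := ξ'
      q₁ := π
      q₂ := π
      i₁ := hπi
      i₂ := hπi
      over₁ := hπ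
      over₂ := hπ
      fp := h
      surj := hp }
  let D : Pair X x q q' p p :=
    { ξ := Z
      ξ₁ := ξ'
      ξ₂ := ξ'
      q₁ := π
      q₂ := θ.iso.hom ≫ π
      i₁ := hπi
      i₂ := by rw [← Category.assoc, θ.i_hom, hπi]
      over₁ := hπ
      over₂ := by
        rw [Category.assoc, hπ, ← Category.assoc]
        exact congrArg (· ≫ Art.specMap p) θ.hom_f
      fp := h
      surj := hp }
  obtain ⟨e⟩ : Nonempty ((glue D₀).Iso (glue D)) := Quotient.exact (hinj (a₁ := (glue D₀).cl) (a₂ := (glue D).cl)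
    (FibProd.ext ((Quotient.sound (nonempty_iso₁ D₀)).trans (Quotient.sound (nonempty_iso₁ D)).symm)
      ((Quotient.sound (nonempty_iso₂ D₀)).trans (Quotient.sound (nonempty_iso₂ D)).symm)))
  obtain ⟨a₁, h₁⟩ := exists_aut (μ := q) (ξ := ξ') (η := glue D) (to₁ D₀ ≫ e.iso.hom) (to₁ D)
    (by rw [← Category.assoc]; exact e.i_hom) rfl
    (by rw [Category.assoc, e.hom_f]; exact to₁_f D₀) (to₁_f D)
  obtain ⟨a₂, h₂⟩ := exists_aut (μ := q') (ξ := ξ') (η := glue D) (to₂ D₀ ≫ e.iso.hom) (to₂ D)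
    (by rw [← Category.assoc, show ξ'.i ≫ to₂ D₀ = (glue D₀).i from i₂_to D₀]; exact e.i_hom) (i₂_to D)
    (by rw [Category.assoc, e.hom_f]; exact to₂_f D₀) (to₂_f D)
  refine ⟨a₁.symm.trans a₂, ?_⟩
  have key : (a₁.baseChange p).iso.hom ≫ θ.iso.hom = (a₂.baseChange p).iso.hom := by
    refine cancel_toTotal (μ := q' ≫ p) (ξ := Z) (η := glue D) (π ≫ to₂ D) ?_ ?_ _ _ ?_ ?_
    · rw [reassoc_of% hπi]
      exact i₂_to D
    · show (π ≫ to₂ D) ≫ f D = _
      rw [Category.assoc, to₂_f, reassoc_of% hπ, Art.specMap_comp]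
    · rw [Category.assoc, θ.hom_f]
      exact (a₁.baseChange p).hom_f.trans (a₂.baseChange p).hom_f.symm
    · have e1 : (a₁.baseChange p).iso.hom ≫ π = π ≫ a₁.iso.hom := DefSch.pullMap_fst _ a₁.hom_f p
      have e2 : (a₂.baseChange p).iso.hom ≫ π = π ≫ a₂.iso.hom := DefSch.pullMap_fst _ a₂.hom_f p
      have hD : π ≫ to₁ D = θ.iso.hom ≫ π ≫ to₂ D := (q_to D).trans (Category.assoc _ _ _)
      rw [Category.assoc, ← hD, reassoc_of% e1, reassoc_of% e2, h₁, h₂]
      exact (reassoc_of% (q_to D₀)) e.iso.hom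
  show (a₁.symm.trans a₂).baseChange p = θ
  refine iso_ext ?_
  have e3 : a₁.trans (a₁.symm.trans a₂) = a₂ := iso_ext (by
    show a₁.iso.hom ≫ a₁.iso.inv ≫ a₂.iso.hom = a₂.iso.hom
    rw [Iso.hom_inv_id_assoc])
  rw [← cancel_epi (a₁.baseChange p).iso.hom, key]
  conv_rhs => rw [← e3, baseChange_trans_hom]

end Square

theorem s1_defFunctor : S1 (defFunctor (Λ := Λ) X x) :=
  fun _ _ _ _ _ _ _ _ h hf => cmp_surjective h hf

/-- Automorphisms lift along the augmentation. -/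
theorem aut_toBase (A : Art Λ k) (ξ' : DefSch (Λ := Λ) X x A) :
    Function.Surjective (fun e : ξ'.Iso ξ' => e.baseChange (Art.toBase A)) := by
  intro θ
  refine ⟨DefSch.Iso.refl ξ', ?_⟩
  haveI : IsIso (ξ'.baseChange (Art.toBase A)).i := (ξ'.baseChange (Art.toBase A)).isPullback.isIso_fst_of_isIso
  refine iso_ext ?_
  rw [← cancel_epi (ξ'.baseChange (Art.toBase A)).i, θ.i_hom]
  exact DefSch.Iso.i_hom _

theorem heps_defFunctor : Heps (defFunctor (Λ := Λ) X x) := fun _ _ _ _ h =>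
  ⟨cmp_injective h (Art.dual Λ k).res_surjective (aut_toBase _), cmp_surjective h (Art.dual Λ k).res_surjective⟩

end DefGlueLib
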