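import Groth.Agent.CotTLib.Smooth
import Mathlib.RingTheory.Smooth.Locus
import Mathlib.RingTheory.Jacobson.Ring

/-!
# `T¹` of an algebra with finitely many non-smooth points is finite-dimensional
-/

set_option autoImplicit false
set_option maxHeartbeats 1000000
set_option linter.unusedSectionVars false
set_option backward.isDefEq.respectTransparency false

universe u

open CotT TensorProduct

noncomputable section

namespace DefGlueLib

variable {k B : Type u} [Field k] [CommRing B] [Algebra k B] {ι σ : Type u} [Finite ι] [Finite σ]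
  (P : Algebra.Presentation k B ι σ)

lemma isNoetherianRing_of_presentation (P : Algebra.Presentation k B ι σ) : IsNoetherianRing B := by
  haveI : IsNoetherianRing P.toExtension.Ring := inferInstanceAs (IsNoetherianRing (MvPolynomial ι k))
  exact isNoetherianRing_of_surjective _ _ (algebraMap P.toExtension.Ring B) P.toExtension.algebraMap_surjective

lemma finite_cotangent : Module.Finite B P.toExtension.Cotangent := by
  haveI : Module.Finite P.toExtension.Ring P.toExtension.ker := by
    refine Module.Finite.iff_fg.2 ?_
    change P.toGenerators.ker.FG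
    rw [← P.span_range_relation_eq_ker]
    exact Submodule.fg_span (Set.finite_range _)
  haveI : Module.Finite P.toExtension.Ring P.toExtension.Cotangent :=
    Module.Finite.of_surjective Algebra.Extension.Cotangent.mk Algebra.Extension.Cotangent.mk_surjective
  exact Module.Finite.of_restrictScalars_finite P.toExtension.Ring B _

lemma finite_T1 : Module.Finite B (T1 P B) := by
  haveI := isNoetherianRing_of_presentation P
  haveI : Module.Finite B (L1 P) := Module.Finite.of_basis (L1basis P)
  haveI : Module.Free B (L1 P) := Module.Free.of_basis (L1basis P)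
  infer_instance

/-- Near a smooth prime the conormal map has a retraction up to a denominator. -/
theorem exists_retraction (p : PrimeSpectrum B) (hp : p ∈ Algebra.smoothLocus k B) :
    ∃ s ∉ p.asIdeal, ∃ l : P.toExtension.CotangentSpace →ₗ[B] P.toExtension.Cotangent,
      ∀ z, l (P.toExtension.cotangentComplex z) = s • z := by
  classical
  haveI := isNoetherianRing_of_presentation P
  haveI : Algebra.FiniteType k B := P.toGenerators.finiteType
  rw [Algebra.smoothLocus_eq_compl_support_inter] at hp
  obtain ⟨hH, hfree⟩ := hp
  rw [Set.mem_compl_iff, Module.notMem_support_iff'] at hH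
  haveI := finite_cotangent P
  -- a denominator killing the first cotangent homology
  obtain ⟨s₁, hs₁, hs₁'⟩ : ∃ s₁ ∉ p.asIdeal, ∀ z, P.toExtension.cotangentComplex z = 0 → s₁ • z = 0 := by
    obtain ⟨S, hS⟩ := IsNoetherian.noetherian (LinearMap.ker P.toExtension.cotangentComplex)
    have h : ∀ z : S, ∃ r ∉ p.asIdeal, r • z.1 = 0 := fun z => by
      let w : P.toExtension.H1Cotangent := ⟨z.1, hS.le (Submodule.subset_span z.2)⟩
      obtain ⟨r, hr, hr0⟩ := hH (P.equivH1Cotangent w)
      refine ⟨r, hr, ?_⟩
      have h0 : r • w = 0 := P.equivH1Cotangent.injective (by rw [map_smul, hr0, map_zero])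
      exact congrArg Subtype.val h0
    choose r hr hr0 using h
    refine ⟨∏ z : S, r z, fun h => ?_, fun z hz => ?_⟩
    · obtain ⟨z, -, hz⟩ := Ideal.IsPrime.prod_mem_iff.1 h
      exact hr z hz
    · have hz' : z ∈ LinearMap.ker P.toExtension.cotangentComplex := hz
      rw [← hS] at hz'
      clear hz
      induction hz' using Submodule.span_induction with
      | mem y hy =>
        rw [← Finset.prod_erase_mul _ _ (Finset.mem_univ (⟨y, hy⟩ : S)), mul_smul, hr0, smul_zero]
      | zero => rw [smul_zero]
      | add y y' _ _ h h' => rw [smul_add, h, h', add_zero]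
      | smul c y _ h => rw [smul_comm, h, smul_zero]
  -- a section of the projection to differentials up to a denominator
  let S := p.asIdeal.primeCompl
  let π : P.toExtension.CotangentSpace →ₗ[B] Ω[B⁄k] := P.toExtension.toKaehler
  haveI : Module.Free (Localization S) (LocalizedModule S Ω[B⁄k]) := hfree
  let πp : LocalizedModule S P.toExtension.CotangentSpace →ₗ[Localization S] LocalizedModule S Ω[B⁄k] :=
    LocalizedModule.map S π
  have hπp : Function.Surjective πp := LocalizedModule.map_surjective S π P.toExtension.toKaehler_surjective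
  obtain ⟨ρ, hρ⟩ := Module.projective_lifting_property πp LinearMap.id hπp
  haveI : Module.Finite B Ω[B⁄k] := inferInstance
  haveI : Module.FinitePresentation B Ω[B⁄k] := Module.finitePresentation_of_finite B _
  let g : Ω[B⁄k] →ₗ[B] LocalizedModule S P.toExtension.CotangentSpace :=
    LinearMap.comp (ρ.restrictScalars B) (LocalizedModule.mkLinearMap S Ω[B⁄k])
  obtain ⟨τ, ⟨s, hs⟩, hτ⟩ := Module.FinitePresentation.exists_lift_of_isLocalizedModule (M := Ω[B⁄k])
    (N := P.toExtension.CotangentSpace) (N' := LocalizedModule S P.toExtension.CotangentSpace) S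
    (LocalizedModule.mkLinearMap S P.toExtension.CotangentSpace) g
  obtain ⟨⟨s', hs'⟩, h'⟩ := Module.Finite.exists_smul_of_comp_eq_of_isLocalizedModule S
    (LocalizedModule.mkLinearMap S Ω[B⁄k]) (π ∘ₗ τ) (s • LinearMap.id) (LinearMap.ext fun w => by
      have h1 := LinearMap.congr_fun hτ w
      have h2 := congrArg πp h1
      rw [LinearMap.comp_apply, LocalizedModule.mkLinearMap_apply, LocalizedModule.map_mk] at h2
      refine h2.trans ?_
      rw [LinearMap.smul_apply, LinearMap.comp_apply, Submonoid.smul_def, LinearMap.map_smul_of_tower,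
        LinearMap.restrictScalars_apply, show πp (ρ _) = _ from LinearMap.congr_fun hρ _, LinearMap.comp_apply,
        LinearMap.smul_apply, map_smul]
      rfl)
  -- lift the complementary projection
  let ψ : P.toExtension.CotangentSpace →ₗ[B] P.toExtension.CotangentSpace :=
    (s' * s) • LinearMap.id - s' • (τ ∘ₗ π)
  have hψ : ∀ j, ∃ c, P.toExtension.cotangentComplex c = ψ (P.cotangentSpaceBasis j) := fun j => by
    refine (P.toExtension.exact_cotangentComplex_toKaehler _).1 ?_
    show π (ψ _) = 0
    have h2 := LinearMap.congr_fun h' (π (P.cotangentSpaceBasis j))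
    change s' • π (τ (π _)) = s' • (s • π _) at h2
    simp only [ψ, LinearMap.sub_apply, LinearMap.smul_apply, LinearMap.id_apply, LinearMap.comp_apply, map_sub,
      map_smul, h2, mul_smul, sub_self]
  choose c hc using hψ
  let l₀ : P.toExtension.CotangentSpace →ₗ[B] P.toExtension.Cotangent := P.cotangentSpaceBasis.constr B c
  have hl₀ : P.toExtension.cotangentComplex ∘ₗ l₀ = ψ := P.cotangentSpaceBasis.ext fun j => by
    rw [LinearMap.comp_apply, Module.Basis.constr_basis, hc]
  refine ⟨s₁ * (s' * s), fun h => ?_, s₁ • l₀, fun z => ?_⟩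
  · rcases p.2.mem_or_mem h with h | h
    · exact hs₁ h
    · rcases p.2.mem_or_mem h with h | h
      · exact hs' h
      · exact hs h
  · have h1 : P.toExtension.cotangentComplex (l₀ (P.toExtension.cotangentComplex z) - (s' * s) • z) = 0 := by
      have h0 : π (P.toExtension.cotangentComplex z) = 0 :=
        (P.toExtension.exact_cotangentComplex_toKaehler _).2 ⟨z, rfl⟩
      rw [map_sub, map_smul, show P.toExtension.cotangentComplex (l₀ (P.toExtension.cotangentComplex z)) =
        ψ (P.toExtension.cotangentComplex z) from LinearMap.congr_fun hl₀ _]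
      simp only [ψ, LinearMap.sub_apply, LinearMap.smul_apply, LinearMap.id_apply, LinearMap.comp_apply, h0, map_zero,
        smul_zero, sub_zero, sub_self]
    have h2 := hs₁' _ h1
    rw [smul_sub, sub_eq_zero, ← mul_smul] at h2
    exact h2

/-- The annihilator of `T¹` avoids the smooth primes. -/
theorem annihilator_not_le (p : PrimeSpectrum B) (hp : p ∈ Algebra.smoothLocus k B) :
    ¬ Module.annihilator B (T1 P B) ≤ p.asIdeal := by
  obtain ⟨s, hs, l, hl⟩ := exists_retraction P p hp
  refine fun hle => hs (hle (Module.mem_annihilator.2 fun z => ?_))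
  obtain ⟨⟨φ, hφ⟩, rfl⟩ := Submodule.Quotient.mk_surjective _ z
  let χ : P.toExtension.Cotangent →ₗ[B] B :=
    (Submodule.liftQ _ φ (by rintro _ ⟨y, rfl⟩; exact LinearMap.congr_fun hφ y)) ∘ₗ
      ((CotTLib.toCot_exact P).linearEquivOfSurjective (CotTLib.toCot_surjective P)).symm.toLinearMap
  have hχ : ∀ y, χ (toCot P y) = φ y := fun y => by
    simp only [χ, LinearMap.comp_apply, LinearEquiv.coe_coe]
    rw [show ((CotTLib.toCot_exact P).linearEquivOfSurjective (CotTLib.toCot_surjective P)).symm (toCot P y) =
      Submodule.Quotient.mk y from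
      ((CotTLib.toCot_exact P).linearEquivOfSurjective _).symm_apply_eq.2 rfl]
    rfl
  rw [← Submodule.Quotient.mk_smul]
  refine (Submodule.Quotient.mk_eq_zero _).2 ⟨χ ∘ₗ l, LinearMap.ext fun y => ?_⟩
  change χ (l (P.toExtension.cotangentComplex (toCot P y))) = s • φ y
  rw [hl, map_smul, hχ]

/-- If there are only finitely many non-smooth primes, `T¹` is finite-dimensional. -/
theorem finite_T1_of_finite_nonsmooth (h : ((Algebra.smoothLocus k B)ᶜ).Finite) : Module.Finite k (T1 P B) := by
  haveI := isNoetherianRing_of_presentation P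
  haveI : Algebra.FiniteType k B := P.toGenerators.finiteType
  let J := Module.annihilator B (T1 P B)
  have hfin : Finite (PrimeSpectrum (B ⧸ J)) := by
    let i : PrimeSpectrum (B ⧸ J) → ((Algebra.smoothLocus k B)ᶜ : Set (PrimeSpectrum B)) := fun q =>
      ⟨PrimeSpectrum.comap (Ideal.Quotient.mk J) q, fun hq => annihilator_not_le P _ hq (fun a ha => by
        show Ideal.Quotient.mk J a ∈ q.asIdeal
        rw [Ideal.Quotient.eq_zero_iff_mem.2 ha]
        exact q.asIdeal.zero_mem)⟩
    haveI := h.to_subtype
    exact Finite.of_injective i fun q q' e =>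
      PrimeSpectrum.comap_injective_of_surjective _ Ideal.Quotient.mk_surjective (congrArg Subtype.val e)
  haveI : Algebra.FiniteType k (B ⧸ J) := Algebra.FiniteType.of_surjective (Ideal.Quotient.mkₐ k J)
    Ideal.Quotient.mk_surjective
  haveI : IsJacobsonRing (B ⧸ J) := isJacobsonRing_of_finiteType (A := k)
  haveI : DiscreteTopology (PrimeSpectrum (B ⧸ J)) := inferInstance
  haveI : IsArtinianRing (B ⧸ J) := by
    obtain ⟨-, hdim⟩ := PrimeSpectrum.discreteTopology_iff_finite_and_krullDimLE_zero.1
      (inferInstance : DiscreteTopology (PrimeSpectrum (B ⧸ J)))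
    exact isArtinianRing_iff_isNoetherianRing_krullDimLE_zero.2 ⟨inferInstance, hdim⟩
  haveI : Module.Finite k (B ⧸ J) := (Module.finite_iff_isArtinianRing k (B ⧸ J)).2 inferInstance
  obtain ⟨n, f, hf⟩ := (finite_T1 P).exists_fin' B (T1 P B)
  let q : (Fin n → B ⧸ J) →ₗ[k] T1 P B :=
    { toFun := fun v => Submodule.liftQ (Submodule.pi Set.univ fun _ : Fin n => (J : Submodule B B)) f
        (fun w hw => by
          show f w = 0
          rw [pi_eq_sum_univ w, map_sum]
          refine Finset.sum_eq_zero fun i _ => ?_
          rw [map_smul]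
          exact Module.mem_annihilator.1 (hw i (Set.mem_univ i)) _)
        ((Submodule.quotientPi fun _ : Fin n => (J : Submodule B B)).symm v)
      map_add' := fun v w => by simp only [map_add]
      map_smul' := fun c v => by
        simp only [← algebraMap_smul B c, map_smul, RingHom.id_apply] }
  refine Module.Finite.of_surjective q fun z => ?_
  obtain ⟨w, rfl⟩ := hf z
  refine ⟨fun i => Ideal.Quotient.mk J (w i), ?_⟩
  simp only [q, LinearMap.coe_mk, AddHom.coe_mk]
  rw [show (Submodule.quotientPi fun _ : Fin n => (J : Submodule B B)).symm (fun i => Ideal.Quotient.mk J (w i)) =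
    Submodule.Quotient.mk w from (LinearEquiv.symm_apply_eq _).2 rfl]
  rfl

end DefGlueLib
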