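import Groth.Agent.DefGlueLib.Functor
import Groth.Agent.DefGlueLib.T1Finite
import Groth.Agent.DefLib.AffPres.Class
import Groth.Agent.ArtLib.Tangent
import Mathlib.AlgebraicGeometry.Morphisms.Smooth

/-!
# The tangent space of the deformations of an affine scheme with finitely many non-smooth points
-/

set_option autoImplicit false
set_option maxHeartbeats 1000000
set_option linter.unusedSectionVars false
set_option backward.isDefEq.respectTransparency false

universe u

open CategoryTheory CategoryTheory.Limits AlgebraicGeometry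

noncomputable section

namespace DefGlueLib

open ArtFun

variable {Λ k : Type u} [CommRing Λ] [Field k] [Algebra Λ k] {X X' : Scheme.{u}} {x : X ⟶ Art.specPt k}
  {x' : X' ⟶ Art.specPt k} (e : X' ≅ X) (he : e.hom ≫ x = x')

/-- Two objects over different bases with the same spectrum. -/
structure Same (A : Art Λ k) (A' : Art k k) where
  /-- the identification of spectra -/
  iso : Art.spec A ≅ Art.spec A'
  res : Art.specRes A ≫ iso.hom = Art.specRes A'

/-- A deformation over an object with the same spectrum. -/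
def conv {A : Art Λ k} {A' : Art k k} (c : Same A A') (ξ : DefSch (Λ := Λ) X x A) : DefSch (Λ := k) X' x' A' where
  total := ξ.total
  f := ξ.f ≫ c.iso.hom
  flat := inferInstance
  i := e.hom ≫ ξ.i
  isPullback := by
    refine ξ.isPullback.of_iso e.symm (CategoryTheory.Iso.refl _) (CategoryTheory.Iso.refl _) c.iso ?_ ?_ ?_ ?_
    · simp
    · simp [← he]
    · simp
    · simp [c.res]

lemma iso_conv {A : Art Λ k} {A' : Art k k} (c : Same A A') {ξ η : DefSch (Λ := Λ) X x A} :
    Nonempty ((conv e he c ξ).Iso (conv e he c η)) ↔ Nonempty (ξ.Iso η) := by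
  refine ⟨fun ⟨φ⟩ => ⟨⟨φ.iso, ?_, ?_⟩⟩, fun ⟨φ⟩ => ⟨⟨φ.iso, ?_, ?_⟩⟩⟩
  · have h : φ.iso.hom ≫ η.f ≫ c.iso.hom = ξ.f ≫ c.iso.hom := φ.hom_f
    rwa [← cancel_mono c.iso.hom, Category.assoc]
  · have h : (e.hom ≫ ξ.i) ≫ φ.iso.hom = e.hom ≫ η.i := φ.i_hom
    rwa [Category.assoc, cancel_epi] at h
  · show φ.iso.hom ≫ η.f ≫ c.iso.hom = ξ.f ≫ c.iso.hom
    rw [reassoc_of% φ.hom_f]
  · show (e.hom ≫ ξ.i) ≫ φ.iso.hom = e.hom ≫ η.i
    rw [Category.assoc, φ.i_hom]

/-- The map of classes. -/
def convCl {A : Art Λ k} {A' : Art k k} (c : Same A A') :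
    (defFunctor (Λ := Λ) X x).obj A → (defFunctor (Λ := k) X' x').obj A' :=
  Quotient.map' (conv e he c) fun _ _ h => (iso_conv e he c).2 h

lemma convCl_injective {A : Art Λ k} {A' : Art k k} (c : Same A A') : Function.Injective (convCl e he c) := by
  intro a b h
  induction a using Quotient.inductionOn with
  | h ξ =>
    induction b using Quotient.inductionOn with
    | h η => exact Quotient.sound ((iso_conv e he c).1 (Quotient.exact h))

lemma convCl_map {A B : Art Λ k} {A' B' : Art k k} (c : Same A A') (d : Same B B') (g : A ⟶ B) (g' : A' ⟶ B')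
    (hg : Art.specMap g ≫ c.iso.hom = d.iso.hom ≫ Art.specMap g') (z : (defFunctor (Λ := Λ) X x).obj A) :
    convCl e he d ((defFunctor (Λ := Λ) X x).map g z) = (defFunctor (Λ := k) X' x').map g' (convCl e he c z) := by
  induction z using Quotient.inductionOn with
  | h ξ =>
    refine (Quotient.sound (nonempty_iso_baseChange (conv e he c ξ) g' (conv e he d (ξ.baseChange g))
      (pullback.fst ξ.f (Art.specMap g)) ?_ ?_)).symm
    · show pullback.fst _ _ ≫ ξ.f ≫ c.iso.hom = (pullback.snd _ _ ≫ d.iso.hom) ≫ _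
      rw [pullback.condition_assoc, hg, Category.assoc]
    · show (e.hom ≫ (ξ.baseChange g).i) ≫ pullback.fst _ _ = e.hom ≫ ξ.i
      rw [Category.assoc, DefSch.baseChange_i_fst]

/-- The dual numbers over `Λ` and over `k`. -/
def sameDual : Same (Art.dual Λ k) (Art.dual k k) := ⟨CategoryTheory.Iso.refl _, Category.comp_id _⟩

/-- The double dual numbers over `Λ` and over `k`. -/
def sameDual2 : Same (Art.dual2 Λ k) (Art.dual2 k k) := ⟨CategoryTheory.Iso.refl _, Category.comp_id _⟩

variable {B₀ : Type u} [CommRing B₀] [Algebra k B₀] {ι σ : Type u} (P : Algebra.Presentation k B₀ ι σ)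

/-- The class in `T¹` of a first order deformation. -/
def clT (e : Spec (CommRingCat.of B₀) ≅ X) (he : e.hom ≫ x = Spec.map (CommRingCat.ofHom (algebraMap k B₀)))
    (z : (defFunctor (Λ := Λ) X x).obj (Art.dual Λ k)) : CotT.T1 P B₀ :=
  DefLib.AffPres.cl1 P (convCl e he sameDual z)

theorem hfin (e : Spec (CommRingCat.of B₀) ≅ X) (he : e.hom ≫ x = Spec.map (CommRingCat.ofHom (algebraMap k B₀)))
    [Finite ι] [Finite σ] [Module.Finite k (CotT.T1 P B₀)] [TangentStr (defFunctor (Λ := Λ) X x)] :
    Hfin (defFunctor (Λ := Λ) X x) := by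
  have hadd : ∀ a b : TangentSpace (defFunctor (Λ := Λ) X x), clT P e he (a + b).val = clT P e he a.val + clT P e he b.val := by
    intro a b
    obtain ⟨z, ⟨h₁, h₂⟩, -⟩ := ArtLib.exists_pair h0_defFunctor heps_defFunctor a.val b.val
    have h := TangentStr.add_eq (F := defFunctor (Λ := Λ) X x) z
    rw [h₁, h₂] at h
    show DefLib.AffPres.cl1 P (convCl e he sameDual ((a + b : TangentSpace (defFunctor (Λ := Λ) X x)))) = _
    rw [show ((a + b : TangentSpace (defFunctor (Λ := Λ) X x)) : (defFunctor (Λ := Λ) X x).obj (Art.dual Λ k)) =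
      (defFunctor (Λ := Λ) X x).map Art.plus z from h]
    rw [clT, clT, ← h₁, ← h₂]
    exact (congrArg (DefLib.AffPres.cl1 P) (convCl_map e he (sameDual2 (Λ := Λ)) (sameDual (Λ := Λ)) Art.plus Art.plus rfl z)).trans
      ((DefLib.AffPres.cl1_map_dual2_plus P _).trans (congrArg₂ (· + ·)
        (congrArg (DefLib.AffPres.cl1 P) (convCl_map e he (sameDual2 (Λ := Λ)) (sameDual (Λ := Λ)) Art.pr₁ Art.pr₁ rfl z)).symm
        (congrArg (DefLib.AffPres.cl1 P) (convCl_map e he (sameDual2 (Λ := Λ)) (sameDual (Λ := Λ)) Art.pr₂ Art.pr₂ rfl z)).symm))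
  let L₀ : TangentSpace (defFunctor (Λ := Λ) X x) →+ CotT.T1 P B₀ := AddMonoidHom.mk' (fun a => clT P e he a.val) hadd
  let L : TangentSpace (defFunctor (Λ := Λ) X x) →ₗ[k] CotT.T1 P B₀ :=
    { L₀ with
      map_smul' := fun c a => by
        show L₀ (c • a) = c • L₀ a
        rcases eq_or_ne c 0 with rfl | hc
        · rw [zero_smul, zero_smul, map_zero]
        · show DefLib.AffPres.cl1 P (convCl e he sameDual ((c • a : TangentSpace (defFunctor (Λ := Λ) X x)))) = _
          rw [show ((c • a : TangentSpace (defFunctor (Λ := Λ) X x)) : (defFunctor (Λ := Λ) X x).obj (Art.dual Λ k)) =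
            (defFunctor (Λ := Λ) X x).map (Art.scale c) a.val from TangentStr.smul_eq c a.val]
          exact (congrArg (DefLib.AffPres.cl1 P)
            (convCl_map e he (sameDual (Λ := Λ)) (sameDual (Λ := Λ)) (Art.scale c) (Art.scale c) rfl a.val)).trans
              (DefLib.AffPres.cl1_map_scale P c hc _) }
  exact Module.Finite.of_injective L fun a b h =>
    convCl_injective e he sameDual ((DefLib.AffPres.cl1_bijective P).1 h)

end DefGlueLib
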