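import Groth.Prelude.Def_ArtFun
import Groth.Agent.DefoIsoLib.Basic
import Mathlib.RingTheory.Localization.Away.Basic

/-!
# Fibre products of rings: localisation and flatness
-/

set_option autoImplicit false
set_option maxHeartbeats 1000000
set_option linter.unusedSectionVars false

universe u

noncomputable section

namespace DefGlueLib

section Loc

variable {R₁ R₂ R : Type u} [CommRing R₁] [CommRing R₂] [CommRing R] (h₁ : R₁ →+* R) (h₂ : R₂ →+* R)

/-- The fibre product of rings. -/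
def fibProd : Subring (R₁ × R₂) :=
  RingHom.eqLocus (h₁.comp (RingHom.fst R₁ R₂)) (h₂.comp (RingHom.snd R₁ R₂))

lemma mem_fibProd {z : R₁ × R₂} : z ∈ fibProd h₁ h₂ ↔ h₁ z.1 = h₂ z.2 := Iff.rfl

variable {S₁ S₂ S : Type u} [CommRing S₁] [CommRing S₂] [CommRing S] (t₁ : S₁ →+* S) (t₂ : S₂ →+* S)
  (l₁ : R₁ →+* S₁) (l₂ : R₂ →+* S₂) (l : R →+* S)
  (c₁ : t₁.comp l₁ = l.comp h₁) (c₂ : t₂.comp l₂ = l.comp h₂)

/-- Functoriality of fibre products. -/
def fibMap : fibProd h₁ h₂ →+* fibProd t₁ t₂ :=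
  RingHom.codRestrict ((RingHom.prodMap l₁ l₂).comp (fibProd h₁ h₂).subtype) _ fun z => by
    show t₁ (l₁ z.1.1) = t₂ (l₂ z.1.2)
    rw [← RingHom.comp_apply, c₁, ← RingHom.comp_apply t₂, c₂, RingHom.comp_apply, RingHom.comp_apply]
    exact congrArg l z.2

lemma fibMap_fst (z : fibProd h₁ h₂) : (fibMap h₁ h₂ t₁ t₂ l₁ l₂ l c₁ c₂ z).1.1 = l₁ z.1.1 := rfl

lemma fibMap_snd (z : fibProd h₁ h₂) : (fibMap h₁ h₂ t₁ t₂ l₁ l₂ l c₁ c₂ z).1.2 = l₂ z.1.2 := rfl

theorem isLocalization_fibMap (g : fibProd h₁ h₂)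
    (H₁ : @IsLocalization.Away R₁ _ g.1.1 S₁ _ l₁.toAlgebra)
    (H₂ : @IsLocalization.Away R₂ _ g.1.2 S₂ _ l₂.toAlgebra)
    (H : @IsLocalization.Away R _ (h₁ g.1.1) S _ l.toAlgebra) :
    @IsLocalization.Away (fibProd h₁ h₂) _ g (fibProd t₁ t₂) _ (fibMap h₁ h₂ t₁ t₂ l₁ l₂ l c₁ c₂).toAlgebra := by
  letI : Algebra (fibProd h₁ h₂) (fibProd t₁ t₂) := (fibMap h₁ h₂ t₁ t₂ l₁ l₂ l c₁ c₂).toAlgebra
  letI := l₁.toAlgebra
  letI := l₂.toAlgebra
  letI := l.toAlgebra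
  haveI := H₁
  haveI := H₂
  haveI := H
  have e₁ : ∀ a, t₁ (l₁ a) = l (h₁ a) := fun a => congr($c₁ a)
  have e₂ : ∀ a, t₂ (l₂ a) = l (h₂ a) := fun a => congr($c₂ a)
  obtain ⟨u₁, hu₁⟩ := isUnit_iff_exists_inv.1 (IsLocalization.Away.algebraMap_isUnit (S := S₁) g.1.1)
  obtain ⟨u₂, hu₂⟩ := isUnit_iff_exists_inv.1 (IsLocalization.Away.algebraMap_isUnit (S := S₂) g.1.2)
  rw [RingHom.algebraMap_toAlgebra] at hu₁ hu₂
  have hg : h₁ g.1.1 = h₂ g.1.2 := g.2
  have hu : t₁ u₁ = t₂ u₂ := by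
    have a : t₁ (l₁ g.1.1) * t₁ u₁ = 1 := by rw [← map_mul, hu₁, map_one]
    have b : t₁ (l₁ g.1.1) * t₂ u₂ = 1 := by rw [e₁, hg, ← e₂, ← map_mul, hu₂, map_one]
    calc t₁ u₁ = t₁ u₁ * (t₁ (l₁ g.1.1) * t₂ u₂) := by rw [b, mul_one]
      _ = (t₁ (l₁ g.1.1) * t₁ u₁) * t₂ u₂ := by ring
      _ = t₂ u₂ := by rw [a, one_mul]
  refine IsLocalization.Away.mk _ ?_ (fun z => ?_) (fun a b hab => ?_)
  · refine isUnit_iff_exists_inv.2 ⟨⟨(u₁, u₂), hu⟩, Subtype.ext (Prod.ext ?_ ?_)⟩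
    · exact hu₁
    · exact hu₂
  · obtain ⟨n₁, y₁, hy₁⟩ := IsLocalization.Away.surj g.1.1 z.1.1
    obtain ⟨n₂, y₂, hy₂⟩ := IsLocalization.Away.surj g.1.2 z.1.2
    rw [RingHom.algebraMap_toAlgebra] at hy₁ hy₂
    have key : l (h₁ (g.1.1 ^ n₂ * y₁)) = l (h₂ (g.1.2 ^ n₁ * y₂)) := by
      have hz : t₁ z.1.1 = t₂ z.1.2 := z.2
      simp only [map_mul, map_pow]
      rw [← e₁ y₁, ← e₂ y₂, ← hy₁, ← hy₂]
      simp only [map_mul, map_pow, e₁, e₂, hg, hz]
      ring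
    obtain ⟨m, hm⟩ := IsLocalization.Away.exists_of_eq (S := S) (h₁ g.1.1) key
    let y : fibProd h₁ h₂ := ⟨(g.1.1 ^ m * (g.1.1 ^ n₂ * y₁), g.1.2 ^ m * (g.1.2 ^ n₁ * y₂)), by
      show h₁ (g.1.1 ^ m * (g.1.1 ^ n₂ * y₁)) = h₂ (g.1.2 ^ m * (g.1.2 ^ n₁ * y₂))
      rw [map_mul h₁, map_mul h₂, map_pow, map_pow, ← hg]
      exact hm⟩
    refine ⟨m + n₂ + n₁, y, ?_⟩
    rw [RingHom.algebraMap_toAlgebra]
    refine Subtype.ext (Prod.ext ?_ ?_)
    · show z.1.1 * (fibMap h₁ h₂ t₁ t₂ l₁ l₂ l c₁ c₂ g ^ (m + n₂ + n₁)).1.1 = l₁ (g.1.1 ^ m * (g.1.1 ^ n₂ * y₁))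
      rw [SubmonoidClass.coe_pow, Prod.pow_fst, fibMap_fst, map_mul, map_mul, map_pow, map_pow, ← hy₁]
      ring
    · show z.1.2 * (fibMap h₁ h₂ t₁ t₂ l₁ l₂ l c₁ c₂ g ^ (m + n₂ + n₁)).1.2 = l₂ (g.1.2 ^ m * (g.1.2 ^ n₁ * y₂))
      rw [SubmonoidClass.coe_pow, Prod.pow_snd, fibMap_snd, map_mul, map_mul, map_pow, map_pow, ← hy₂]
      ring
  · rw [RingHom.algebraMap_toAlgebra] at hab
    obtain ⟨m₁, hm₁⟩ := IsLocalization.Away.exists_of_eq (S := S₁) g.1.1
      (show algebraMap R₁ S₁ a.1.1 = algebraMap R₁ S₁ b.1.1 from congrArg (fun w => w.1.1) hab)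
    obtain ⟨m₂, hm₂⟩ := IsLocalization.Away.exists_of_eq (S := S₂) g.1.2
      (show algebraMap R₂ S₂ a.1.2 = algebraMap R₂ S₂ b.1.2 from congrArg (fun w => w.1.2) hab)
    refine ⟨m₁ + m₂, Subtype.ext (Prod.ext ?_ ?_)⟩
    · show (g ^ (m₁ + m₂)).1.1 * a.1.1 = (g ^ (m₁ + m₂)).1.1 * b.1.1
      rw [SubmonoidClass.coe_pow, Prod.pow_fst]
      linear_combination g.1.1 ^ m₂ * hm₁
    · show (g ^ (m₁ + m₂)).1.2 * a.1.2 = (g ^ (m₁ + m₂)).1.2 * b.1.2
      rw [SubmonoidClass.coe_pow, Prod.pow_snd]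
      linear_combination g.1.2 ^ m₁ * hm₂

end Loc

section Flat

variable {Λ k : Type u} [CommRing Λ] [Field k] [Algebra Λ k] {Γ₀ : Type u} [CommRing Γ₀] (s₀ : k →+* Γ₀)

/-- A flat algebra with the given special fibre. -/
structure Fib {A : ArtFun.Art Λ k} {N : Type u} [CommRing N] (s : A →+* N) (π : N →+* Γ₀) : Prop where
  flat : s.Flat
  comm : ∀ a, π (s a) = s₀ (A.res a)
  surj : Function.Surjective π
  ker : RingHom.ker π ≤ (IsLocalRing.maximalIdeal A).map s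

variable {s₀}

lemma sum_map {R S : Type u} [CommRing R] [CommRing S] {ι : Type u} (π : R →+* S) {A : ArtFun.Art Λ k}
    (l : ι →₀ A) (f : ι → A → R) :
    π (l.sum f) = l.sum fun i a => π (f i a) := map_finsuppSum π l f

/-- Lifts of a basis of the special fibre form a basis. -/
theorem Fib.bijective {A : ArtFun.Art Λ k} {N : Type u} [CommRing N] {s : A →+* N} {π : N →+* Γ₀}
    (hN : Fib s₀ s π) {κ : Type u} (b : κ → Γ₀)
    (hb : Function.Bijective fun l : κ →₀ k => l.sum fun i c => s₀ c * b i) (e : κ → N) (he : ∀ i, π (e i) = b i) :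
    Function.Bijective fun l : κ →₀ A => l.sum fun i a => s a * e i := by
  letI : Algebra A N := s.toAlgebra
  haveI : Module.Flat A N := hN.flat
  let f : (κ →₀ A) →ₗ[A] N := Finsupp.linearCombination A e
  have hf : (fun l : κ →₀ A => l.sum fun i a => s a * e i) = f := funext fun l => by
    simp [f, Finsupp.linearCombination_apply, Algebra.smul_def, RingHom.algebraMap_toAlgebra]
  rw [hf]
  let g : (κ →₀ A) →+ Γ₀ := π.toAddMonoidHom.comp f.toAddMonoidHom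
  have hg : ∀ l : κ →₀ A, g l = (Finsupp.mapRange A.res (map_zero A.res) l).sum fun i c => s₀ c * b i := fun l => by
    show π (f l) = _
    rw [← hf, Finsupp.sum_mapRange_index (fun i => by rw [map_zero, zero_mul])]
    show π (l.sum fun i a => s a * e i) = _
    rw [sum_map]
    exact Finsupp.sum_congr fun i _ => by rw [map_mul, hN.comm, he]
  refine DefoIsoLib.bijective_of_reduction (I := IsLocalRing.maximalIdeal A) ?_ f g π.toAddMonoidHom
    (fun l => rfl) (fun c => ?_) (fun l hl => ?_) (fun v hv => ?_)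
  · rw [← IsLocalRing.jacobson_eq_maximalIdeal ⊥ bot_ne_top]
    exact IsArtinianRing.isNilpotent_jacobson_bot
  · obtain ⟨l, rfl⟩ := hb.2 c
    obtain ⟨l', rfl⟩ := Finsupp.mapRange_surjective A.res (map_zero A.res) A.res_surjective l
    exact ⟨l', hg l'⟩
  · rw [hg] at hl
    have h0 : Finsupp.mapRange A.res (map_zero A.res) l = 0 := hb.1 (hl.trans (by simp))
    rw [← l.sum_single]
    refine Submodule.sum_mem _ fun i _ => ?_
    rw [← Finsupp.smul_single_one]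
    exact Submodule.smul_mem_smul
      ((ArtFun.Art.mem_maximalIdeal_iff A _).2 (by simpa using DFunLike.congr_fun h0 i)) Submodule.mem_top
  · rw [Ideal.smul_top_eq_map, RingHom.algebraMap_toAlgebra]
    exact hN.ker hv

variable {A A₁ A₂ B : ArtFun.Art Λ k} {p₁ : B ⟶ A₁} {p₂ : B ⟶ A₂} {f₁ : A₁ ⟶ A} {f₂ : A₂ ⟶ A}
  {N N₁ N₂ : Type u} [CommRing N] [CommRing N₁] [CommRing N₂] {s : A →+* N} {π : N →+* Γ₀}
  {s₁ : A₁ →+* N₁} {π₁ : N₁ →+* Γ₀} {s₂ : A₂ →+* N₂} {π₂ : N₂ →+* Γ₀}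

theorem fib_fibProd (hfp : ArtFun.Art.IsFibreProd p₁ p₂ f₁ f₂) (hf₂ : Function.Surjective f₂)
    (hN : Fib s₀ s π) (hN₁ : Fib s₀ s₁ π₁) (hN₂ : Fib s₀ s₂ π₂) (h₁ : N₁ →+* N) (h₂ : N₂ →+* N)
    (e₁ : ∀ a, h₁ (s₁ a) = s (f₁ a)) (e₂ : ∀ a, h₂ (s₂ a) = s (f₂ a)) (d₁ : ∀ y, π (h₁ y) = π₁ y)
    (d₂ : ∀ y, π (h₂ y) = π₂ y) (sB : B →+* fibProd h₁ h₂) (hsB : ∀ b, (sB b).1 = (s₁ (p₁ b), s₂ (p₂ b)))
    (πB : fibProd h₁ h₂ →+* Γ₀) (hπB : ∀ z, πB z = π₁ z.1.1) :
    Fib s₀ sB πB ∧ Function.Surjective (fun z : fibProd h₁ h₂ => z.1.1) := by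
  classical
  letI : Algebra k Γ₀ := s₀.toAlgebra
  obtain ⟨⟨κ, bb⟩⟩ := Module.Free.exists_basis (R := k) (M := Γ₀)
  have hb : Function.Bijective fun l : κ →₀ k => l.sum fun i c => s₀ c * bb i := by
    have e : (fun l : κ →₀ k => l.sum fun i c => s₀ c * bb i) = bb.repr.symm := funext fun l => by
      rw [Module.Basis.repr_symm_apply, Finsupp.linearCombination_apply]
      exact Finsupp.sum_congr fun i _ => (Algebra.smul_def _ _).symm
    rw [e]
    exact bb.repr.symm.bijective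
  choose u₁ hu₁ using fun i => hN₁.surj (bb i)
  choose u₂ hu₂ using fun i => hN₂.surj (bb i)
  -- the images in `N` agree for a suitable choice
  have h2s : Function.Surjective h₂ := fun y => by
    obtain ⟨l, rfl⟩ := (hN.bijective bb hb (fun i => h₂ (u₂ i)) (fun i => (d₂ _).trans (hu₂ i))).2 y
    obtain ⟨l', rfl⟩ := Finsupp.mapRange_surjective f₂.toAlgHom (map_zero f₂.toAlgHom) hf₂ l
    refine ⟨l'.sum fun i a => s₂ a * u₂ i, ?_⟩
    show _ = Finsupp.sum _ _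
    rw [sum_map, Finsupp.sum_mapRange_index (fun i => by rw [map_zero, zero_mul])]
    exact Finsupp.sum_congr fun i _ => by rw [map_mul, e₂]
  choose v₂ hv₂ using fun i => h2s (h₁ (u₁ i))
  have hv₂' : ∀ i, π₂ (v₂ i) = bb i := fun i => by rw [← d₂, hv₂, d₁, hu₁]
  have hb₁ := hN₁.bijective bb hb u₁ hu₁
  have hb₂ := hN₂.bijective bb hb v₂ hv₂'
  have hbN := hN.bijective bb hb (fun i => h₁ (u₁ i)) (fun i => (d₁ _).trans (hu₁ i))
  let w : κ → fibProd h₁ h₂ := fun i => ⟨(u₁ i, v₂ i), (hv₂ i).symm⟩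
  letI : Algebra B (fibProd h₁ h₂) := sB.toAlgebra
  let Φ : (κ →₀ B) →ₗ[B] fibProd h₁ h₂ := Finsupp.linearCombination B w
  have hΦ : ∀ l, (Φ l).1 = ((Finsupp.mapRange p₁.toAlgHom (map_zero p₁.toAlgHom) l).sum fun i a => s₁ a * u₁ i,
      (Finsupp.mapRange p₂.toAlgHom (map_zero p₂.toAlgHom) l).sum fun i a => s₂ a * v₂ i) := fun l => by
    induction l using Finsupp.induction_linear with
    | zero => simp; rfl
    | add a b ha hb' =>
      rw [map_add, Subring.coe_add, ha, hb', Finsupp.mapRange_add (map_add p₁.toAlgHom),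
        Finsupp.mapRange_add (map_add p₂.toAlgHom),
        Finsupp.sum_add_index (fun i _ => by rw [map_zero, zero_mul]) (fun i _ _ _ => by rw [map_add, add_mul]),
        Finsupp.sum_add_index (fun i _ => by rw [map_zero, zero_mul]) (fun i _ _ _ => by rw [map_add, add_mul])]
      rfl
    | single i c =>
      rw [Finsupp.mapRange_single, Finsupp.mapRange_single, Finsupp.sum_single_index (by rw [map_zero, zero_mul]),
        Finsupp.sum_single_index (by rw [map_zero, zero_mul])]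
      show (Finsupp.linearCombination B w (Finsupp.single i c)).1 = _
      rw [Finsupp.linearCombination_single, Algebra.smul_def, Subring.coe_mul, RingHom.algebraMap_toAlgebra, hsB]
      rfl
  have hΦb : Function.Bijective Φ := by
    refine ⟨fun l l' h => ?_, fun z => ?_⟩
    · have h' := congrArg Subtype.val h
      rw [hΦ, hΦ, Prod.mk.injEq] at h'
      have g₁ := hb₁.1 h'.1
      have g₂ := hb₂.1 h'.2
      exact Finsupp.ext fun i => hfp.inj _ _ (by simpa using DFunLike.congr_fun g₁ i)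
        (by simpa using DFunLike.congr_fun g₂ i)
    · obtain ⟨l₁, hl₁⟩ := hb₁.2 z.1.1
      obtain ⟨l₂, hl₂⟩ := hb₂.2 z.1.2
      have heq : Finsupp.mapRange f₁.toAlgHom (map_zero f₁.toAlgHom) l₁ =
          Finsupp.mapRange f₂.toAlgHom (map_zero f₂.toAlgHom) l₂ := hbN.1 (by
        show Finsupp.sum _ _ = Finsupp.sum _ _
        rw [Finsupp.sum_mapRange_index (fun i => by rw [map_zero, zero_mul]),
          Finsupp.sum_mapRange_index (fun i => by rw [map_zero, zero_mul])]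
        have hz : h₁ z.1.1 = h₂ z.1.2 := z.2
        rw [← hl₁, ← hl₂, sum_map, sum_map] at hz
        simp only [map_mul, e₁, e₂, hv₂] at hz
        exact hz)
      classical
      choose c hc₁ hc₂ using fun i => hfp.surj (l₁ i) (l₂ i) (by simpa using DFunLike.congr_fun heq i)
      let l : κ →₀ B := Finsupp.indicator (l₁.support ∪ l₂.support) fun i _ => c i
      have hm₁ : Finsupp.mapRange p₁.toAlgHom (map_zero p₁.toAlgHom) l = l₁ := Finsupp.ext fun i => by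
        by_cases hi : i ∈ l₁.support ∪ l₂.support
        · simp [l, Finsupp.indicator_of_mem hi, hc₁]
        · simp only [Finset.mem_union, not_or] at hi
          simp [l, Finsupp.notMem_support_iff.1 hi.1, hi]
      have hm₂ : Finsupp.mapRange p₂.toAlgHom (map_zero p₂.toAlgHom) l = l₂ := Finsupp.ext fun i => by
        by_cases hi : i ∈ l₁.support ∪ l₂.support
        · simp [l, Finsupp.indicator_of_mem hi, hc₂]
        · simp only [Finset.mem_union, not_or] at hi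
          simp [l, Finsupp.notMem_support_iff.1 hi.2, hi]
      exact ⟨l, Subtype.ext (by rw [hΦ, hm₁, hm₂]; exact Prod.ext hl₁ hl₂)⟩
  have hπΦ : ∀ l, πB (Φ l) = (Finsupp.mapRange B.res (map_zero B.res) l).sum fun i c => s₀ c * bb i := fun l => by
    rw [hπB, hΦ, sum_map, Finsupp.sum_mapRange_index (fun i => by rw [map_zero, zero_mul, map_zero]),
      Finsupp.sum_mapRange_index (fun i => by rw [map_zero, zero_mul])]
    exact Finsupp.sum_congr fun i _ => by rw [map_mul, hN₁.comm, ArtFun.Art.res_app, hu₁]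
  have hp₁s : Function.Surjective fun z : fibProd h₁ h₂ => z.1.1 := fun y => by
    obtain ⟨y₂, hy₂⟩ := h2s (h₁ y)
    exact ⟨⟨(y, y₂), hy₂.symm⟩, rfl⟩
  refine ⟨⟨?_, fun b => by rw [hπB, hsB, hN₁.comm, ArtFun.Art.res_app], fun c => ?_, fun z hz => ?_⟩, hp₁s⟩
  · haveI := Module.Free.of_equiv (LinearEquiv.ofBijective Φ hΦb)
    exact (inferInstance : Module.Flat B (fibProd h₁ h₂))
  · obtain ⟨y, rfl⟩ := hN₁.surj c
    obtain ⟨z, rfl⟩ := hp₁s y
    exact ⟨z, hπB z⟩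
  · obtain ⟨l, rfl⟩ := hΦb.2 z
    rw [RingHom.mem_ker, hπΦ] at hz
    have h0 : Finsupp.mapRange B.res (map_zero B.res) l = 0 := hb.1 (hz.trans (by simp))
    show Finsupp.linearCombination B w l ∈ _
    rw [Finsupp.linearCombination_apply]
    refine Submodule.sum_mem _ fun i _ => ?_
    show l i • w i ∈ _
    rw [Algebra.smul_def]
    exact Ideal.mul_mem_right _ _ (Ideal.mem_map_of_mem _
      ((ArtFun.Art.mem_maximalIdeal_iff B _).2 (by simpa using DFunLike.congr_fun h0 i)))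

end Flat

end DefGlueLib
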