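import Groth.Agent.DefGlueLib.Basic
import Groth.Agent.DefGlueLib.Ring

/-!
# Maps between the sections of deformations
-/

set_option autoImplicit false
set_option maxHeartbeats 1000000
set_option linter.unusedSectionVars false
set_option backward.isDefEq.respectTransparency false

universe u

open CategoryTheory CategoryTheory.Limits AlgebraicGeometry TopologicalSpace

noncomputable section

namespace DefGlueLib

variable {Λ k : Type u} [CommRing Λ] [Field k] [Algebra Λ k] {X : Scheme.{u}} {x : X ⟶ ArtFun.Art.specPt k}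
  {A A' : ArtFun.Art Λ k} {ξ : ArtFun.DefSch (Λ := Λ) X x A} {ξ' : ArtFun.DefSch (Λ := Λ) X x A'}

lemma fib (ξ : ArtFun.DefSch (Λ := Λ) X x A) (W : Aff X) :
    Fib (str₀ (x := x) W).hom (str ξ W).hom (rdS ξ W).hom where
  flat := str_flat ξ W
  comm a := congr(($(str_rdS ξ W)) a)
  surj := rdS_surjective ξ W
  ker := rdS_ker ξ W

/-- Restriction of sections. -/
def res (ξ : ArtFun.DefSch (Λ := Λ) X x A) {W W' : Aff X} (h : W'.1 ≤ W.1) : sec ξ W ⟶ sec ξ W' :=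
  ξ.total.presheaf.map (homOfLE (up_mono ξ h)).op

lemma res_comp (ξ : ArtFun.DefSch (Λ := Λ) X x A) {W W' W'' : Aff X} (h : W'.1 ≤ W.1) (h' : W''.1 ≤ W'.1) :
    res ξ h ≫ res ξ h' = res ξ (h'.trans h) := by
  rw [res, res, ← Functor.map_comp]
  rfl

lemma res_refl (ξ : ArtFun.DefSch (Λ := Λ) X x A) (W : Aff X) (h : W.1 ≤ W.1) : res ξ h = 𝟙 _ := by
  rw [res]
  exact ξ.total.presheaf.map_id _

lemma str_res (ξ : ArtFun.DefSch (Λ := Λ) X x A) {W W' : Aff X} (h : W'.1 ≤ W.1) :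
    str ξ W ≫ res ξ h = str ξ W' := by
  refine Spec.map_injective ?_
  rw [Spec.map_comp, Spec_str, Spec_str, res, IsAffineOpen.map_fromSpec_assoc (isAffineOpen_up ξ W.2) (isAffineOpen_up ξ W'.2)]

lemma res_rdS (ξ : ArtFun.DefSch (Λ := Λ) X x A) {W W' : Aff X} (h : W'.1 ≤ W.1) :
    res ξ h ≫ rdS ξ W' = rdS ξ W ≫ X.presheaf.map (homOfLE h).op := by
  rw [res, rdS, rdS, Scheme.Hom.map_appLE, Scheme.Hom.appLE_map]

lemma res_fromSpec (ξ : ArtFun.DefSch (Λ := Λ) X x A) {W W' : Aff X} (h : W'.1 ≤ W.1) :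
    Spec.map (res ξ h) ≫ (isAffineOpen_up ξ W.2).fromSpec = (isAffineOpen_up ξ W'.2).fromSpec :=
  IsAffineOpen.map_fromSpec (isAffineOpen_up ξ W.2) (isAffineOpen_up ξ W'.2) _

/-- The map on sections of a morphism of deformations under the closed fibre. -/
def mapS (q : ξ'.total ⟶ ξ.total) (h : ξ'.i ≫ q = ξ.i) (W : Aff X) : sec ξ W ⟶ sec ξ' W :=
  q.appLE (up ξ W.1) (up ξ' W.1) (preimage_up_of_comp ξ q h W.1).ge

lemma mapS_fromSpec (q : ξ'.total ⟶ ξ.total) (h : ξ'.i ≫ q = ξ.i) (W : Aff X) :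
    Spec.map (mapS q h W) ≫ (isAffineOpen_up ξ W.2).fromSpec = (isAffineOpen_up ξ' W.2).fromSpec ≫ q :=
  IsAffineOpen.SpecMap_appLE_fromSpec q (isAffineOpen_up ξ W.2) (isAffineOpen_up ξ' W.2) _

lemma str_mapS (μ : A ⟶ A') (q : ξ'.total ⟶ ξ.total) (h : ξ'.i ≫ q = ξ.i)
    (hq : q ≫ ξ.f = ξ'.f ≫ ArtFun.Art.specMap μ) (W : Aff X) :
    str ξ W ≫ mapS q h W = CommRingCat.ofHom μ.toAlgHom.toRingHom ≫ str ξ' W := by
  refine Spec.map_injective ?_
  rw [Spec.map_comp, Spec.map_comp, Spec_str, Spec_str, reassoc_of% (mapS_fromSpec q h W), hq, Category.assoc]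

lemma res_mapS (q : ξ'.total ⟶ ξ.total) (h : ξ'.i ≫ q = ξ.i) {W W' : Aff X} (hW : W'.1 ≤ W.1) :
    res ξ hW ≫ mapS q h W' = mapS q h W ≫ res ξ' hW := by
  rw [res, res, mapS, mapS, Scheme.Hom.map_appLE, Scheme.Hom.appLE_map]

lemma mapS_rdS (q : ξ'.total ⟶ ξ.total) (h : ξ'.i ≫ q = ξ.i) (W : Aff X) :
    mapS q h W ≫ rdS ξ' W = rdS ξ W := by
  rw [mapS, rdS, rdS, Scheme.Hom.appLE_comp_appLE]
  simp only [h]

/-- The basic open of a lift is the lift of the basic open. -/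
lemma up_basicOpen (ξ : ArtFun.DefSch (Λ := Λ) X x A) (W : Aff X) (g : sec ξ W) :
    up ξ (X.basicOpen (rdS ξ W g)) = ξ.total.basicOpen g := by
  have e : X.basicOpen (rdS ξ W g) = ξ.i ⁻¹ᵁ ξ.total.basicOpen g := by
    rw [rdS, Scheme.basicOpen_appLE, inf_eq_right]
    exact le_of_le_of_eq (fun a ha => ξ.total.basicOpen_le g ha) (preimage_up ξ W.1)
  rw [e, up_preimage]

lemma isLocalization_res (ξ : ArtFun.DefSch (Λ := Λ) X x A) {W W' : Aff X} (h : W'.1 ≤ W.1) (g : sec ξ W)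
    (hg : W'.1 = X.basicOpen (rdS ξ W g)) :
    @IsLocalization.Away (sec ξ W) _ g (sec ξ W') _ (res ξ h).hom.toAlgebra :=
  (isAffineOpen_up ξ W.2).isLocalization_of_eq_basicOpen g (homOfLE (up_mono ξ h))
    ((congrArg (up ξ) hg).trans (up_basicOpen ξ W g))

/-- Morphisms out of a deformation are determined on the lifts of affine opens. -/
theorem hom_ext (ξ : ArtFun.DefSch (Λ := Λ) X x A) {T : Scheme.{u}} {φ ψ : ξ.total ⟶ T}
    (h : ∀ W : Aff X, (isAffineOpen_up ξ W.2).fromSpec ≫ φ = (isAffineOpen_up ξ W.2).fromSpec ≫ ψ) : φ = ψ := by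
  refine (Scheme.AffineZariskiSite.isColimitCocone ξ.total).hom_ext fun U => ?_
  show U.2.fromSpec ≫ φ = U.2.fromSpec ≫ ψ
  let W : Aff X := ⟨ξ.i ⁻¹ᵁ U.1, U.2.preimage ξ.i⟩
  have e : U.1 = up ξ W.1 := (up_preimage ξ U.1).symm
  rw [← IsAffineOpen.map_fromSpec (isAffineOpen_up ξ W.2) U.2 (homOfLE e.le).op, Category.assoc, Category.assoc, h W]

end DefGlueLib
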