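import Groth.Agent.DefGlueLib.Functor
import Groth.Agent.ArtLib.Torsor
import Groth.Agent.ArtLib.SmallExt

/-!
# Automorphisms of deformations are trivial when those of the trivial first order deformation are
-/

set_option autoImplicit false
set_option maxHeartbeats 1000000
set_option linter.unusedSectionVars false
set_option backward.isDefEq.respectTransparency false

universe u

open CategoryTheory CategoryTheory.Limits AlgebraicGeometry

noncomputable section

namespace DefGlueLib

open ArtFun

variable {Λ k : Type u} [CommRing Λ] [Field k] [Algebra Λ k] {X : Scheme.{u}} {x : X ⟶ Art.specPt k}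

/-- All automorphisms of a deformation are trivial. -/
def AutTriv {A : Art Λ k} (ξ : DefSch (Λ := Λ) X x A) : Prop := ∀ e : ξ.Iso ξ, e.iso.hom = 𝟙 ξ.total

theorem AutTriv.of_iso {A : Art Λ k} {ξ ξ' : DefSch (Λ := Λ) X x A} (h : AutTriv ξ) (i : ξ.Iso ξ') : AutTriv ξ' := by
  intro e
  have h1 : i.iso.hom ≫ e.iso.hom ≫ i.iso.inv = 𝟙 _ := h ((i.trans e).trans i.symm) |> fun h2 => by
    rw [← h2]
    exact (Category.assoc _ _ _).symm
  rw [← cancel_epi i.iso.hom, ← cancel_mono i.iso.inv, Category.assoc, h1, Category.comp_id, Iso.hom_inv_id]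

theorem autTriv_base (ξ : DefSch (Λ := Λ) X x (Art.base Λ k)) : AutTriv ξ := by
  intro e
  haveI : IsIso ξ.i := ξ.isPullback.isIso_fst_of_isIso
  rw [← cancel_epi ξ.i, e.i_hom, Category.comp_id]

/-- Automorphism groups are trivial along a small extension. -/
theorem autTriv_of_smallExt [IsNoetherianRing Λ] [Module.Finite Λ k]
    (hd : AutTriv ((DefSch.self (Λ := Λ) X x (flat_of_specPt x)).baseChange Art.baseToDual)) {A B : Art Λ k}
    {p : B ⟶ A} (hp : Art.IsSmallExt p) (ξ : DefSch (Λ := Λ) X x B) (hA : AutTriv (ξ.baseChange p)) : AutTriv ξ := by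
  intro e
  obtain ⟨t, P, q₁, q₂, a, -, hP, hsq, -, s, hs₁, hs₂, hs₃⟩ := ArtLib.exists_act_square hp
  let Z := ξ.baseChange p
  let π : Z.total ⟶ ξ.total := pullback.fst _ _
  have hπi : Z.i ≫ π = ξ.i := DefSch.baseChange_i_fst ξ p
  have hπ : π ≫ ξ.f = Z.f ≫ Art.specMap p := pullback.condition
  have hπe : π ≫ e.iso.hom = π := by
    have h1 : DefSch.pullMap e.iso.hom e.hom_f p ≫ π = π ≫ e.iso.hom := DefSch.pullMap_fst _ e.hom_f p
    rw [← h1, show DefSch.pullMap e.iso.hom e.hom_f p = 𝟙 _ from hA (e.baseChange p), Category.id_comp]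
  let D : Pair X x q₁ a p p :=
    { ξ := Z
      ξ₁ := ξ
      ξ₂ := ξ
      q₁ := π
      q₂ := π
      i₁ := hπi
      i₂ := hπi
      over₁ := hπ
      over₂ := hπ
      fp := hsq
      surj := hp.1 }
  let G := glue D
  have hi₂ : ξ.i ≫ e.iso.hom ≫ to₂ D = G.i := by
    rw [← Category.assoc, e.i_hom]
    exact i₂_to D
  obtain ⟨E, hE₁, hE₂, -⟩ := exists_glueIso D G (to₁ D) (e.iso.hom ≫ to₂ D) rfl hi₂ (to₁_f D)
    (by
      show (e.iso.hom ≫ to₂ D) ≫ f D = _
      rw [Category.assoc, to₂_f, ← Category.assoc, e.hom_f])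
    (by
      show π ≫ to₁ D = π ≫ e.iso.hom ≫ to₂ D
      rw [← Category.assoc π e.iso.hom, hπe]
      exact q_to D)
  -- the glued deformation comes from `ξ`
  have hl₁ : 𝟙 ξ.total ≫ ξ.f = (ξ.f ≫ Art.specMap q₁) ≫ Art.specMap s := by
    rw [Category.id_comp, Category.assoc, ← Art.specMap_comp, hs₁, Art.specMap_id, Category.comp_id]
  have hl₂ : 𝟙 ξ.total ≫ ξ.f = (ξ.f ≫ Art.specMap a) ≫ Art.specMap s := by
    rw [Category.id_comp, Category.assoc, ← Art.specMap_comp, hs₃, Art.specMap_id, Category.comp_id]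
  obtain ⟨iG⟩ := nonempty_iso_glue D (ξ.baseChange s) (pullback.lift (𝟙 _) (ξ.f ≫ Art.specMap q₁) hl₁)
    (pullback.lift (𝟙 _) (ξ.f ≫ Art.specMap a) hl₂)
    (by
      apply pullback.hom_ext
      · rw [Category.assoc, pullback.lift_fst, Category.comp_id, DefSch.baseChange_i_fst]
      · rw [Category.assoc, pullback.lift_snd, reassoc_of% D.ξ₁.i_f, Art.specRes_comp]
        exact (DefSch.baseChange_i_f ξ s).symm)
    (by
      apply pullback.hom_ext
      · rw [Category.assoc, pullback.lift_fst, Category.comp_id, DefSch.baseChange_i_fst]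
      · rw [Category.assoc, pullback.lift_snd, reassoc_of% D.ξ₂.i_f, Art.specRes_comp]
        exact (DefSch.baseChange_i_f ξ s).symm)
    (pullback.lift_snd _ _ _) (pullback.lift_snd _ _ _)
    (by
      apply pullback.hom_ext
      · rw [Category.assoc, Category.assoc, pullback.lift_fst, pullback.lift_fst]
      · rw [Category.assoc, Category.assoc, pullback.lift_snd, pullback.lift_snd, reassoc_of% D.over₁,
          reassoc_of% D.over₂, ← Art.specMap_comp, ← Art.specMap_comp, hsq.w])
  -- its component along `q₂` is the trivial deformation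
  have hT : AutTriv (G.baseChange q₂) := by
    obtain ⟨e₀⟩ := nonempty_iso_base (ξ.baseChange (Art.toBase B)) (DefSch.self (Λ := Λ) X x (flat_of_specPt x))
    have i₁ := (iG.baseChange q₂).trans (DefSch.baseChangeComp ξ s q₂).symm
    rw [hs₂] at i₁
    exact hd.of_iso ((i₁.trans ((DefSch.baseChangeComp ξ (Art.toBase B) Art.baseToDual).trans
      (e₀.baseChange Art.baseToDual))).symm)
  -- the automorphism of the glued deformation is trivial
  have hf₁ : pullback.fst G.f (Art.specMap q₁) ≫ E.iso.hom = pullback.fst G.f (Art.specMap q₁) := by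
    have : IsIso (pullback.lift (to₁ D) ξ.f (to₁_f D) : ξ.total ⟶ pullback G.f (Art.specMap q₁)) := by
      refine isIso_of_hom ξ (ξ' := G.baseChange q₁) _ (pullback.lift_snd _ _ _) ?_
      apply pullback.hom_ext
      · rw [Category.assoc, pullback.lift_fst, DefSch.baseChange_i_fst]
        rfl
      · rw [Category.assoc, pullback.lift_snd, ξ.i_f]
        exact (DefSch.baseChange_i_f G q₁).symm
    rw [← cancel_epi (pullback.lift (to₁ D) ξ.f (to₁_f D) : ξ.total ⟶ pullback G.f (Art.specMap q₁)),
      pullback.lift_fst_assoc, pullback.lift_fst]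
    exact hE₁
  have hf₂ : pullback.fst G.f (Art.specMap q₂) ≫ E.iso.hom = pullback.fst G.f (Art.specMap q₂) := by
    rw [← DefSch.pullMap_fst E.iso.hom E.hom_f q₂,
      show DefSch.pullMap E.iso.hom E.hom_f q₂ = 𝟙 _ from hT (E.baseChange q₂), Category.id_comp]
  let D' : Pair X x q₁ q₂ (Art.toBase B) (Art.toBase (Art.dual Λ k)) :=
    { ξ := DefSch.self (Λ := Λ) X x (flat_of_specPt x)
      ξ₁ := G.baseChange q₁
      ξ₂ := G.baseChange q₂
      q₁ := (G.baseChange q₁).i
      q₂ := (G.baseChange q₂).i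
      i₁ := Category.id_comp _
      i₂ := Category.id_comp _
      over₁ := DefSch.baseChange_i_f G q₁
      over₂ := DefSch.baseChange_i_f G q₂
      fp := hP
      surj := (Art.dual Λ k).res_surjective }
  have hid : E.iso.hom = 𝟙 G.total := hom_ext_corner D' G G (pullback.fst _ _) (pullback.fst _ _)
    (DefSch.baseChange_i_fst G q₁) (DefSch.baseChange_i_fst G q₂) pullback.condition pullback.condition
    ((DefSch.baseChange_i_fst G q₁).trans (DefSch.baseChange_i_fst G q₂).symm) _ _ E.i_hom (Category.comp_id _)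
    (hf₁.trans (Category.comp_id _).symm) (hf₂.trans (Category.comp_id _).symm)
  have he : to₂ D = e.iso.hom ≫ to₂ D := by
    have h2 := hE₂
    rw [hid] at h2
    exact (Category.comp_id _).symm.trans h2
  exact cancel_toTotal (μ := a) (ξ := ξ) (η := G) (to₂ D) (i₂_to D) (to₂_f D) _ _
    (by rw [e.hom_f, Category.id_comp]) (by rw [Category.id_comp]; exact he.symm)

/-- Automorphism groups are trivial everywhere. -/
theorem autTriv_of_dual [IsNoetherianRing Λ] [Module.Finite Λ k]
    (hd : AutTriv ((DefSch.self (Λ := Λ) X x (flat_of_specPt x)).baseChange Art.baseToDual)) (A : Art Λ k)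
    (ξ : DefSch (Λ := Λ) X x A) : AutTriv ξ := by
  refine ArtLib.surjective_induction
    (fun A B (p : B ⟶ A) => (∀ η : DefSch (Λ := Λ) X x A, AutTriv η) → ∀ η : DefSch (Λ := Λ) X x B, AutTriv η)
    ?_ ?_ ?_ (Art.toBase A) A.res_surjective autTriv_base ξ
  · intro A B e he hA η
    have i₁ := (DefSch.baseChangeComp η e (inv e)).symm
    rw [IsIso.hom_inv_id] at i₁
    intro s
    have hs := hA (η.baseChange e) (s.baseChange e)
    have h1 : pullback.fst η.f (Art.specMap e) ≫ s.iso.hom = pullback.fst η.f (Art.specMap e) := by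
      rw [← DefSch.pullMap_fst s.iso.hom s.hom_f e, show DefSch.pullMap s.iso.hom s.hom_f e = 𝟙 _ from hs,
        Category.id_comp]
    haveI : IsIso (Art.specMap e) :=
      ⟨Art.specMap (inv e), by rw [← Art.specMap_comp, IsIso.inv_hom_id, Art.specMap_id],
        by rw [← Art.specMap_comp, IsIso.hom_inv_id, Art.specMap_id]⟩
    rw [← cancel_epi (pullback.fst η.f (Art.specMap e)), h1, Category.comp_id]
  · exact fun A B p hp hA η => autTriv_of_smallExt hd hp η (hA _)
  · exact fun A B C p q hp hq hA η => hp (hq hA) η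

end DefGlueLib
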