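import Groth.Agent.DefGlueLib.Aut
import Groth.Agent.HomTanLib.Mor
import Groth.Agent.OmegaAffLib.Universal

/-!
# Infinitesimal automorphisms and homomorphisms out of the differentials
-/

set_option autoImplicit false
set_option maxHeartbeats 1000000
set_option linter.unusedSectionVars false
set_option backward.isDefEq.respectTransparency false

universe u

open CategoryTheory CategoryTheory.Limits AlgebraicGeometry

noncomputable section

namespace DefGlueLib

open ArtFun

variable {k : Type u} [Field k] {X : Scheme.{u}} (x : X ⟶ Art.specPt k)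

/-- The trivial deformation over the dual numbers. -/
abbrev triv : DefSch (Λ := k) X x (Art.dual k k) :=
  (DefSch.self (Λ := k) X x (flat_of_specPt x)).baseChange Art.baseToDual

theorem autTriv_triv_iff : AutTriv (triv x) ↔ Subsingleton (HomTanLib.Def1 x x (𝟙 X)) := by
  have hincl : Art.XAincl x (Art.dual k k) = (triv x).i := by
    apply pullback.hom_ext
    · refine (Art.XAincl_fst x _).trans ?_
      exact (DefSch.baseChange_i_fst (DefSch.self (Λ := k) X x (flat_of_specPt x)) Art.baseToDual).symm
    · refine (Art.XAincl_snd x _).trans ?_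
      exact (DefSch.baseChange_i_f (DefSch.self (Λ := k) X x (flat_of_specPt x)) Art.baseToDual).symm
  constructor
  · intro h
    suffices key : ∀ φ : HomTanLib.Def1 x x (𝟙 X), φ.1 = pullback.fst x (Art.specOver (Art.dual k k)) from
      ⟨fun φ ψ => Subtype.ext ((key φ).trans (key ψ).symm)⟩
    intro φ
    have w : φ.1 ≫ x = pullback.snd x (Art.specOver (Art.dual k k)) ≫ Art.specOver (Art.dual k k) :=
      φ.2.1.trans pullback.condition
    let ψ : (triv x).total ⟶ (triv x).total := pullback.lift φ.1 (triv x).f w
    have hi : (triv x).i ≫ ψ = (triv x).i := by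
      apply pullback.hom_ext
      · rw [Category.assoc, pullback.lift_fst]
        refine Eq.trans ?_ (DefSch.baseChange_i_fst (DefSch.self (Λ := k) X x (flat_of_specPt x)) Art.baseToDual).symm
        show (triv x).i ≫ φ.1 = 𝟙 X
        rw [← hincl]
        exact φ.2.2
      · rw [Category.assoc, pullback.lift_snd]
    have := h (isoOfHom (triv x) ψ (pullback.lift_snd _ _ _) hi)
    calc φ.1 = ψ ≫ pullback.fst x (Art.specOver (Art.dual k k)) := (pullback.lift_fst _ _ _).symm
      _ = 𝟙 _ ≫ pullback.fst x (Art.specOver (Art.dual k k)) := congrArg (· ≫ _) this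
      _ = _ := Category.id_comp _
  · intro h e
    let φ : HomTanLib.Def1 x x (𝟙 X) :=
      ⟨e.iso.hom ≫ pullback.fst x (Art.specOver (Art.dual k k)), by
        refine (Category.assoc _ _ _).trans ?_
        rw [pullback.condition, ← Category.assoc]
        exact congrArg (· ≫ Art.specOver (Art.dual k k)) e.hom_f, by
        rw [hincl]
        exact (reassoc_of% e.i_hom) _ |>.trans
          (DefSch.baseChange_i_fst (DefSch.self (Λ := k) X x (flat_of_specPt x)) Art.baseToDual)⟩
    let φ₀ : HomTanLib.Def1 x x (𝟙 X) :=
      ⟨pullback.fst x (Art.specOver (Art.dual k k)), rfl, Art.XAincl_fst x _⟩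
    apply pullback.hom_ext
    · exact (congrArg Subtype.val (h.elim φ φ₀)).trans (Category.id_comp _).symm
    · exact e.hom_f.trans (Category.id_comp _).symm

theorem autTriv_triv_iff_hom [QuasiSeparated x] :
    AutTriv (triv x) ↔ Subsingleton (Omega.sheaf x ⟶ Coh.structureModule X) := by
  rw [autTriv_triv_iff]
  let M := (Scheme.Modules.pushforward (𝟙 X)).obj (Coh.structureModule X)
  let e₁ := Equiv.ofBijective _ (HomTanLib.derOf_bijective (x := x) (yY := x) (f := 𝟙 X) (Category.id_comp x))
  let u : (Omega.sheaf x ⟶ M) → OmegaSh.Der x M := fun α => (OmegaSh.dOmega x).postcomp α.val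
  have hu : Function.Bijective u :=
    ⟨fun α β e => ((OmegaAffLib.isUniversal_dOmega (f := x)) M (u α)).unique rfl e.symm,
      fun Dr => (OmegaAffLib.isUniversal_dOmega (f := x) M Dr).exists⟩
  exact ((e₁.trans (Equiv.ofBijective u hu).symm).trans
    (((Scheme.Modules.pushforwardId X).app (Coh.structureModule X)).homToEquiv)).subsingleton_congr

end DefGlueLib
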