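import Groth.Prelude.Def_ArtFun4
import Groth.Agent.DefLib.AffineExt
import Groth.Agent.ThickFlatLib.Apps
import Groth.Agent.S0440

/-!
# Sections of deformations over opens of the closed fibre
-/

set_option autoImplicit false
set_option maxHeartbeats 1000000
set_option linter.unusedSectionVars false
set_option backward.isDefEq.respectTransparency false

universe u

open CategoryTheory CategoryTheory.Limits AlgebraicGeometry TopologicalSpace

noncomputable section

namespace DefGlueLib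

variable {Λ k : Type u} [CommRing Λ] [Field k] [Algebra Λ k] {X : Scheme.{u}} {x : X ⟶ ArtFun.Art.specPt k}
  {A A' : ArtFun.Art Λ k}

lemma nilpotent_maximalIdeal (A : ArtFun.Art Λ k) : IsNilpotent (IsLocalRing.maximalIdeal A) := by
  rw [← IsLocalRing.jacobson_eq_maximalIdeal ⊥ bot_ne_top]
  exact IsArtinianRing.isNilpotent_jacobson_bot

lemma ker_res (A : ArtFun.Art Λ k) : RingHom.ker A.res.toRingHom = IsLocalRing.maximalIdeal A := by
  ext a
  exact (ArtFun.Art.mem_maximalIdeal_iff A a).symm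

lemma isThickening_specRes (A : ArtFun.Art Λ k) : MoreMor.IsThickening (ArtFun.Art.specRes A) := by
  have h1 : IsClosedImmersion (ArtFun.Art.specRes A) := IsClosedImmersion.spec_of_surjective _ A.res_surjective
  haveI : Subsingleton (PrimeSpectrum A) :=
    ⟨fun p q => PrimeSpectrum.ext ((IsLocalRing.eq_maximalIdeal (IsArtinianRing.isMaximal_of_isPrime p.asIdeal)).trans
      (IsLocalRing.eq_maximalIdeal (IsArtinianRing.isMaximal_of_isPrime q.asIdeal)).symm)⟩
  exact ⟨h1, ⟨fun _ => ⟨IsLocalRing.closedPoint k, Subsingleton.elim (α := PrimeSpectrum A) _ _⟩⟩⟩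

variable (ξ : ArtFun.DefSch (Λ := Λ) X x A)

instance isClosedImmersion_i : IsClosedImmersion ξ.i :=
  MorphismProperty.of_isPullback (P := @IsClosedImmersion) ξ.isPullback.flip (isThickening_specRes A).1

instance surjective_i : Surjective ξ.i :=
  MorphismProperty.of_isPullback (P := @Surjective) ξ.isPullback.flip (isThickening_specRes A).2

/-- The closed fibre has the same space. -/
def homeo : X ≃ₜ ξ.total :=
  ξ.i.isClosedEmbedding.toIsEmbedding.toHomeomorphOfSurjective ξ.i.surjective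

/-- An open of the closed fibre as an open of the deformation. -/
def up (W : X.Opens) : ξ.total.Opens := ⟨(homeo ξ) '' W, (homeo ξ).isOpenMap _ W.2⟩

lemma preimage_up (W : X.Opens) : ξ.i ⁻¹ᵁ up ξ W = W := by
  refine Opens.ext ?_
  show (homeo ξ) ⁻¹' ((homeo ξ) '' W) = W
  exact (homeo ξ).injective.preimage_image _

lemma up_preimage (V : ξ.total.Opens) : up ξ (ξ.i ⁻¹ᵁ V) = V := by
  refine Opens.ext ?_
  show (homeo ξ) '' ((homeo ξ) ⁻¹' V) = V
  exact (homeo ξ).surjective.image_preimage _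

lemma up_mono {W W' : X.Opens} (h : W ≤ W') : up ξ W ≤ up ξ W' := Set.image_mono h

lemma preimage_up_of_comp {ξ' : ArtFun.DefSch (Λ := Λ) X x A'} (q : ξ'.total ⟶ ξ.total) (h : ξ'.i ≫ q = ξ.i)
    (W : X.Opens) : q ⁻¹ᵁ up ξ W = up ξ' W := by
  rw [← up_preimage ξ' (q ⁻¹ᵁ up ξ W), ← Scheme.Hom.comp_preimage, h, preimage_up]

lemma isAffineOpen_up {W : X.Opens} (hW : IsAffineOpen W) : IsAffineOpen (up ξ W) := by
  haveI : IsClosedImmersion (ξ.i ∣_ up ξ W) :=
    IsZariskiLocalAtTarget.restrict (P := @IsClosedImmersion) inferInstance _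
  haveI : Surjective (ξ.i ∣_ up ξ W) :=
    IsZariskiLocalAtTarget.restrict (P := @Surjective) inferInstance _
  haveI : IsAffine (ξ.i ⁻¹ᵁ up ξ W : X.Opens) := by
    rw [preimage_up]
    exact hW
  exact Groth.Agent.S0440.result (ξ.i ∣_ up ξ W) (ξ.i ∣_ up ξ W).surjective

/-- Affine opens of the closed fibre. -/
abbrev Aff (X : Scheme.{u}) : Type u := X.affineOpens

/-- The sections of a deformation over an affine open of the closed fibre. -/
abbrev sec (W : Aff X) : CommRingCat.{u} := Γ(ξ.total, up ξ W.1)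

/-- The structure map on sections. -/
def str (W : Aff X) : CommRingCat.of A ⟶ sec ξ W :=
  Spec.preimage ((isAffineOpen_up ξ W.2).fromSpec ≫ ξ.f)

lemma Spec_str (W : Aff X) : Spec.map (str ξ W) = (isAffineOpen_up ξ W.2).fromSpec ≫ ξ.f :=
  Spec.map_preimage _

/-- The structure map of the closed fibre on sections. -/
def str₀ (W : Aff X) : CommRingCat.of k ⟶ Γ(X, W.1) := Spec.preimage (W.2.fromSpec ≫ x)

/-- Reduction to the closed fibre. -/
def rdS (W : Aff X) : sec ξ W ⟶ Γ(X, W.1) := ξ.i.appLE (up ξ W.1) W.1 (preimage_up ξ W.1).ge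

lemma str_rdS (W : Aff X) : str ξ W ≫ rdS ξ W = CommRingCat.ofHom A.res.toRingHom ≫ str₀ (x := x) W := by
  refine Spec.map_injective ?_
  rw [Spec.map_comp, Spec.map_comp, Spec_str, str₀, Spec.map_preimage, rdS,
    reassoc_of% (IsAffineOpen.SpecMap_appLE_fromSpec ξ.i (isAffineOpen_up ξ W.2) W.2 _), Category.assoc, ξ.i_f]

lemma isPushout_rdS (W : Aff X) :
    IsPushout (str ξ W) (CommRingCat.ofHom A.res.toRingHom) (rdS ξ W) (str₀ (x := x) W) := by
  refine DefLib.isPushout_of_isPullback_SpecMap ?_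
  have h1 : IsPullback (Spec.map (rdS ξ W)) W.2.fromSpec (isAffineOpen_up ξ W.2).fromSpec ξ.i := by
    refine IsOpenImmersion.isPullback _ _ _ _ (IsAffineOpen.SpecMap_appLE_fromSpec ξ.i _ W.2 _).symm ?_
    rw [IsAffineOpen.opensRange_fromSpec, IsAffineOpen.opensRange_fromSpec, preimage_up]
  have h2 := h1.paste_vert ξ.isPullback
  rw [← Spec_str] at h2
  rw [show W.2.fromSpec ≫ x = Spec.map (str₀ (x := x) W) from (Spec.map_preimage _).symm] at h2
  exact h2

lemma rdS_surjective (W : Aff X) : Function.Surjective (rdS ξ W).hom :=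
  (DefLib.surjective_ker_of_isPushout (isPushout_rdS ξ W).flip A.res_surjective).1

lemma rdS_ker (W : Aff X) :
    RingHom.ker (rdS ξ W).hom ≤ (IsLocalRing.maximalIdeal A).map (str ξ W).hom := by
  rw [← ker_res]
  exact (DefLib.surjective_ker_of_isPushout (isPushout_rdS ξ W).flip A.res_surjective).2

lemma rdS_ker_nilpotent (W : Aff X) {a : sec ξ W} (ha : rdS ξ W a = 0) : IsNilpotent a := by
  obtain ⟨n, hn⟩ := nilpotent_maximalIdeal A
  refine ⟨n, ?_⟩
  have h := Ideal.pow_mem_pow (rdS_ker ξ W ha) n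
  rw [← Ideal.map_pow, hn, Submodule.zero_eq_bot, Ideal.map_bot, Ideal.mem_bot] at h
  exact h

lemma str_flat (W : Aff X) : (str ξ W).hom.Flat := by
  have h : Flat (Spec.map (str ξ W)) := by
    rw [Spec_str]
    infer_instance
  exact Flat.SpecMap_iff.1 h

/-- Morphisms of deformations over the same ring are isomorphisms. -/
theorem isIso_of_hom {ξ' : ArtFun.DefSch (Λ := Λ) X x A} (φ : ξ.total ⟶ ξ'.total) (h1 : φ ≫ ξ'.f = ξ.f)
    (h2 : ξ.i ≫ φ = ξ'.i) : IsIso φ := by
  have hS : MoreMor.IsFiniteOrderThickening (ArtFun.Art.specRes A) := by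
    refine ⟨isThickening_specRes A, ?_⟩
    obtain ⟨n, hn⟩ := nilpotent_maximalIdeal A
    haveI := (isThickening_specRes A).1
    refine ⟨n + 1, Scheme.IdealSheafData.ext_of_isAffine ?_⟩
    rw [Scheme.IdealSheafData.ideal_pow, Pi.pow_apply]
    refine (congrArg (fun I => I ^ (n + 1)) (Scheme.Hom.ker_apply (ArtFun.Art.specRes A) ⟨⊤, isAffineOpen_top _⟩)).trans ?_
    refine eq_bot_iff.2 ?_
    have e : (RingHom.ker ((ArtFun.Art.specRes A).app ⊤).hom) =
        (IsLocalRing.maximalIdeal A).map (Scheme.ΓSpecIso (CommRingCat.of A)).inv.hom := by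
      have hsq : (Scheme.ΓSpecIso (CommRingCat.of A)).inv ≫ (ArtFun.Art.specRes A).app ⊤ =
          CommRingCat.ofHom A.res.toRingHom ≫ (Scheme.ΓSpecIso (CommRingCat.of k)).inv :=
        (Scheme.ΓSpecIso_inv_naturality _).symm
      refine le_antisymm (fun a ha => ?_) (Ideal.map_le_iff_le_comap.2 fun a ha => ?_)
      · obtain ⟨b, rfl⟩ := (ConcreteCategory.bijective_of_isIso (Scheme.ΓSpecIso (CommRingCat.of A)).inv).2 a
        refine Ideal.mem_map_of_mem _ ((ArtFun.Art.mem_maximalIdeal_iff A b).2 ?_)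
        have := congr(($hsq) b)
        exact (ConcreteCategory.bijective_of_isIso (Scheme.ΓSpecIso (CommRingCat.of k)).inv).1
          ((this.symm.trans ha).trans (map_zero _).symm)
      · have := congr(($hsq) a)
        refine this.trans ?_
        show (Scheme.ΓSpecIso (CommRingCat.of k)).inv (A.res a) = 0
        rw [(ArtFun.Art.mem_maximalIdeal_iff A a).1 ha, map_zero]
    refine (Ideal.pow_right_mono e.le _).trans ?_
    rw [← Ideal.map_pow, pow_succ, hn, zero_mul, Submodule.zero_eq_bot, Ideal.map_bot]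
  haveI : Flat (φ ≫ ξ'.f) := by rw [h1]; infer_instance
  haveI := ThickFlatLib.isOpenImmersion_of_finiteOrder (iX := ξ.i) (iY := ξ'.i) (f := 𝟙 X) (f' := φ) (g := x)
    (g' := ξ'.f) hS (by rw [Category.id_comp, h1]; exact ξ.isPullback) ξ'.isPullback (by rw [h2, Category.id_comp])
  exact ThickFlatLib.isIso_of_openImmersion (iX := ξ.i) (iY := ξ'.i) (f := 𝟙 X) inferInstance
    (by rw [h2, Category.id_comp])

/-- A morphism of deformations over the same ring as an isomorphism. -/
def isoOfHom {ξ' : ArtFun.DefSch (Λ := Λ) X x A} (φ : ξ.total ⟶ ξ'.total) (h1 : φ ≫ ξ'.f = ξ.f)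
    (h2 : ξ.i ≫ φ = ξ'.i) : ξ.Iso ξ' :=
  haveI := isIso_of_hom ξ φ h1 h2
  ⟨asIso φ, h1, h2⟩

/-- A morphism over a change of rings exhibits the base change. -/
theorem nonempty_iso_baseChange (μ : A ⟶ A') (ξ' : ArtFun.DefSch (Λ := Λ) X x A') (q : ξ'.total ⟶ ξ.total)
    (h1 : q ≫ ξ.f = ξ'.f ≫ ArtFun.Art.specMap μ) (h2 : ξ'.i ≫ q = ξ.i) : Nonempty ((ξ.baseChange μ).Iso ξ') := by
  refine ⟨(isoOfHom ξ' (ξ' := ξ.baseChange μ) (pullback.lift q ξ'.f h1) (pullback.lift_snd _ _ _) ?_).symm⟩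
  apply pullback.hom_ext
  · rw [Category.assoc, pullback.lift_fst, h2, ArtFun.DefSch.baseChange_i_fst]
  · rw [Category.assoc, pullback.lift_snd, ξ'.i_f]
    exact (ArtFun.DefSch.baseChange_i_f ξ μ).symm

end DefGlueLib
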