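import Groth.Agent.DefGlueLib.Sec

/-!
# Glueing deformations over a fibre product of Artin rings
-/

set_option autoImplicit false
set_option maxHeartbeats 1000000
set_option linter.unusedSectionVars false
set_option backward.isDefEq.respectTransparency false

universe u

open CategoryTheory CategoryTheory.Limits AlgebraicGeometry TopologicalSpace

noncomputable section

namespace DefGlueLib

variable {Λ k : Type u} [CommRing Λ] [Field k] [Algebra Λ k]

/-- Deformations over the corners with maps from a common restriction. -/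
structure Pair (X : Scheme.{u}) (x : X ⟶ ArtFun.Art.specPt k) {B A A₁ A₂ : ArtFun.Art Λ k}
    (p₁ : B ⟶ A₁) (p₂ : B ⟶ A₂) (f₁ : A₁ ⟶ A) (f₂ : A₂ ⟶ A) : Type (u + 1) where
  /-- over the base -/
  ξ : ArtFun.DefSch (Λ := Λ) X x A
  /-- over the first corner -/
  ξ₁ : ArtFun.DefSch (Λ := Λ) X x A₁
  /-- over the second corner -/
  ξ₂ : ArtFun.DefSch (Λ := Λ) X x A₂
  /-- the first map -/
  q₁ : ξ.total ⟶ ξ₁.total
  /-- the second map -/
  q₂ : ξ.total ⟶ ξ₂.total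
  i₁ : ξ.i ≫ q₁ = ξ₁.i
  i₂ : ξ.i ≫ q₂ = ξ₂.i
  over₁ : q₁ ≫ ξ₁.f = ξ.f ≫ ArtFun.Art.specMap f₁
  over₂ : q₂ ≫ ξ₂.f = ξ.f ≫ ArtFun.Art.specMap f₂
  fp : ArtFun.Art.IsFibreProd p₁ p₂ f₁ f₂
  surj : Function.Surjective f₂

variable {X : Scheme.{u}} {x : X ⟶ ArtFun.Art.specPt k} {B A A₁ A₂ : ArtFun.Art Λ k}
  {p₁ : B ⟶ A₁} {p₂ : B ⟶ A₂} {f₁ : A₁ ⟶ A} {f₂ : A₂ ⟶ A} (D : Pair X x p₁ p₂ f₁ f₂)

/-- The fibre product of the sections. -/
def R (W : Aff X) : CommRingCat.{u} :=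
  CommRingCat.of (fibProd (mapS D.q₁ D.i₁ W).hom (mapS D.q₂ D.i₂ W).hom)

/-- The first projection. -/
def fstR (W : Aff X) : R D W ⟶ sec D.ξ₁ W :=
  CommRingCat.ofHom ((RingHom.fst _ _).comp (fibProd (mapS D.q₁ D.i₁ W).hom (mapS D.q₂ D.i₂ W).hom).subtype)

/-- The second projection. -/
def sndR (W : Aff X) : R D W ⟶ sec D.ξ₂ W :=
  CommRingCat.ofHom ((RingHom.snd _ _).comp (fibProd (mapS D.q₁ D.i₁ W).hom (mapS D.q₂ D.i₂ W).hom).subtype)

lemma fstR_mapS (W : Aff X) : fstR D W ≫ mapS D.q₁ D.i₁ W = sndR D W ≫ mapS D.q₂ D.i₂ W := by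
  ext z
  exact z.2

lemma ext_R {W : Aff X} {T : CommRingCat.{u}} {φ ψ : T ⟶ R D W} (h₁ : φ ≫ fstR D W = ψ ≫ fstR D W)
    (h₂ : φ ≫ sndR D W = ψ ≫ sndR D W) : φ = ψ := by
  ext z
  exact Subtype.ext (Prod.ext congr(($h₁) z) congr(($h₂) z))

/-- Lifting into the fibre product. -/
def liftR {W : Aff X} {T : CommRingCat.{u}} (a : T ⟶ sec D.ξ₁ W) (b : T ⟶ sec D.ξ₂ W)
    (h : a ≫ mapS D.q₁ D.i₁ W = b ≫ mapS D.q₂ D.i₂ W) : T ⟶ R D W :=
  CommRingCat.ofHom (RingHom.codRestrict (RingHom.prod a.hom b.hom) _ fun z => congr(($h) z))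

lemma liftR_fst {W : Aff X} {T : CommRingCat.{u}} (a : T ⟶ sec D.ξ₁ W) (b : T ⟶ sec D.ξ₂ W)
    (h : a ≫ mapS D.q₁ D.i₁ W = b ≫ mapS D.q₂ D.i₂ W) : liftR D a b h ≫ fstR D W = a := by
  ext z; rfl

lemma liftR_snd {W : Aff X} {T : CommRingCat.{u}} (a : T ⟶ sec D.ξ₁ W) (b : T ⟶ sec D.ξ₂ W)
    (h : a ≫ mapS D.q₁ D.i₁ W = b ≫ mapS D.q₂ D.i₂ W) : liftR D a b h ≫ sndR D W = b := by
  ext z; rfl

/-- Restriction. -/
def resR {W W' : Aff X} (h : W'.1 ≤ W.1) : R D W ⟶ R D W' :=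
  CommRingCat.ofHom (fibMap _ _ _ _ (res D.ξ₁ h).hom (res D.ξ₂ h).hom (res D.ξ h).hom
    (RingHom.ext fun a => congr(($(res_mapS D.q₁ D.i₁ h)) a))
    (RingHom.ext fun a => congr(($(res_mapS D.q₂ D.i₂ h)) a)))

lemma resR_fst {W W' : Aff X} (h : W'.1 ≤ W.1) : resR D h ≫ fstR D W' = fstR D W ≫ res D.ξ₁ h := by
  ext z; rfl

lemma resR_snd {W W' : Aff X} (h : W'.1 ≤ W.1) : resR D h ≫ sndR D W' = sndR D W ≫ res D.ξ₂ h := by
  ext z; rfl

/-- The structure map. -/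
def strR (W : Aff X) : CommRingCat.of B ⟶ R D W :=
  liftR D (CommRingCat.ofHom p₁.toAlgHom.toRingHom ≫ str D.ξ₁ W) (CommRingCat.ofHom p₂.toAlgHom.toRingHom ≫ str D.ξ₂ W)
    (by
      rw [Category.assoc, Category.assoc, str_mapS f₁ D.q₁ D.i₁ D.over₁, str_mapS f₂ D.q₂ D.i₂ D.over₂,
        ← Category.assoc, ← Category.assoc]
      congr 1
      ext b
      exact D.fp.w_apply b)

lemma strR_fst (W : Aff X) : strR D W ≫ fstR D W = CommRingCat.ofHom p₁.toAlgHom.toRingHom ≫ str D.ξ₁ W :=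
  liftR_fst D _ _ _

lemma strR_snd (W : Aff X) : strR D W ≫ sndR D W = CommRingCat.ofHom p₂.toAlgHom.toRingHom ≫ str D.ξ₂ W :=
  liftR_snd D _ _ _

lemma strR_res {W W' : Aff X} (h : W'.1 ≤ W.1) : strR D W ≫ resR D h = strR D W' := by
  refine ext_R D ?_ ?_
  · rw [Category.assoc, resR_fst, reassoc_of% (strR_fst D W), str_res, strR_fst]
  · rw [Category.assoc, resR_snd, reassoc_of% (strR_snd D W), str_res, strR_snd]

/-- Reduction to the closed fibre. -/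
def rdR (W : Aff X) : R D W ⟶ Γ(X, W.1) := fstR D W ≫ rdS D.ξ₁ W

lemma resR_rdR {W W' : Aff X} (h : W'.1 ≤ W.1) :
    resR D h ≫ rdR D W' = rdR D W ≫ X.presheaf.map (homOfLE h).op := by
  rw [rdR, rdR, reassoc_of% (resR_fst D h), res_rdS, Category.assoc]

lemma fib_R (W : Aff X) :
    Fib (str₀ (x := x) W).hom (strR D W).hom (rdR D W).hom ∧ Function.Surjective (fstR D W).hom :=
  fib_fibProd D.fp D.surj (fib D.ξ W) (fib D.ξ₁ W) (fib D.ξ₂ W) (mapS D.q₁ D.i₁ W).hom (mapS D.q₂ D.i₂ W).hom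
    (fun a => congr(($(str_mapS f₁ D.q₁ D.i₁ D.over₁ W)) a))
    (fun a => congr(($(str_mapS f₂ D.q₂ D.i₂ D.over₂ W)) a))
    (fun y => congr(($(mapS_rdS D.q₁ D.i₁ W)) y))
    (fun y => congr(($(mapS_rdS D.q₂ D.i₂ W)) y))
    (strR D W).hom (fun b => rfl) (rdR D W).hom (fun z => rfl)

lemma comap_rdR_bijective (W : Aff X) : Function.Bijective (PrimeSpectrum.comap (rdR D W).hom) := by
  refine ⟨PrimeSpectrum.comap_injective_of_surjective _ (fib_R D W).1.surj, fun p => ?_⟩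
  have h : p ∈ Set.range (PrimeSpectrum.comap (rdR D W).hom) := by
    rw [range_comap_of_surjective _ _ (fib_R D W).1.surj, PrimeSpectrum.mem_zeroLocus]
    intro a ha
    obtain ⟨n, hn⟩ := nilpotent_maximalIdeal B
    have h1 := Ideal.pow_mem_pow ((fib_R D W).1.ker ha) n
    rw [← Ideal.map_pow, hn, Submodule.zero_eq_bot, Ideal.map_bot, Ideal.mem_bot] at h1
    exact p.2.mem_of_pow_mem n (h1 ▸ p.asIdeal.zero_mem)
  exact h

lemma SpecMap_rdR_bijective (W : Aff X) : Function.Bijective (Spec.map (rdR D W)).base :=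
  comap_rdR_bijective D W

/-- An object of the affine site as an affine open. -/
abbrev aff (U : X.AffineZariskiSite) : Aff X := ⟨U.1, U.2⟩

lemma site_le {U V : X.AffineZariskiSite} (f : U ⟶ V) : U.1 ≤ V.1 :=
  Scheme.AffineZariskiSite.toOpens_mono (leOfHom f)

/-- The diagram of spectra. -/
def G : X.AffineZariskiSite ⥤ Scheme.{u} where
  obj U := Spec (R D (aff U))
  map {U V} f := Spec.map (resR D (W := aff V) (W' := aff U) (site_le f))
  map_id U := by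
    rw [show resR D (W := aff U) (W' := aff U) (site_le (𝟙 U)) = 𝟙 _ from
      ext_R D (by rw [resR_fst, res_refl, Category.comp_id, Category.id_comp])
        (by rw [resR_snd, res_refl, Category.comp_id, Category.id_comp]), Spec.map_id]
  map_comp {U V W} f g := by
    rw [← Spec.map_comp]
    congr 1
    refine ext_R D ?_ ?_
    · rw [Category.assoc, resR_fst, resR_fst, reassoc_of% (resR_fst D (W := aff W) (W' := aff V) (site_le g)), res_comp]
    · rw [Category.assoc, resR_snd, resR_snd, reassoc_of% (resR_snd D (W := aff W) (W' := aff V) (site_le g)), res_comp]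

lemma rdR_eq₂ (W : Aff X) (g : R D W) : rdR D W g = rdS D.ξ₂ W (sndR D W g) := by
  have h : rdR D W = sndR D W ≫ rdS D.ξ₂ W := by
    rw [rdR, ← mapS_rdS D.q₁ D.i₁, ← mapS_rdS D.q₂ D.i₂, reassoc_of% (fstR_mapS D W)]
  exact congr(($h) g)

lemma rdR_eq (W : Aff X) (g : R D W) : rdR D W g = rdS D.ξ W (mapS D.q₁ D.i₁ W (fstR D W g)) := by
  have h : rdR D W = fstR D W ≫ mapS D.q₁ D.i₁ W ≫ rdS D.ξ W := by rw [rdR, mapS_rdS]
  exact congr(($h) g)

lemma isOpenImmersion_resR {W W' : Aff X} (h : W'.1 ≤ W.1) (g : R D W) (hg : W'.1 = X.basicOpen (rdR D W g)) :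
    IsOpenImmersion (Spec.map (resR D h)) := by
  let z : fibProd (mapS D.q₁ D.i₁ W).hom (mapS D.q₂ D.i₂ W).hom := g
  have H₁ := isLocalization_res D.ξ₁ h (fstR D W g) hg
  have H₂ := isLocalization_res D.ξ₂ h (sndR D W g) (hg.trans (congrArg (X.basicOpen ·) (rdR_eq₂ D W g)))
  have H := isLocalization_res D.ξ h (mapS D.q₁ D.i₁ W (fstR D W g)) (hg.trans (congrArg (X.basicOpen ·) (rdR_eq D W g)))
  have c₁ : (mapS D.q₁ D.i₁ W').hom.comp (res D.ξ₁ h).hom = (res D.ξ h).hom.comp (mapS D.q₁ D.i₁ W).hom :=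
    RingHom.ext fun a => congr(($(res_mapS D.q₁ D.i₁ h)) a)
  have c₂ : (mapS D.q₂ D.i₂ W').hom.comp (res D.ξ₂ h).hom = (res D.ξ h).hom.comp (mapS D.q₂ D.i₂ W).hom :=
    RingHom.ext fun a => congr(($(res_mapS D.q₂ D.i₂ h)) a)
  have L := isLocalization_fibMap (mapS D.q₁ D.i₁ W).hom (mapS D.q₂ D.i₂ W).hom
      (mapS D.q₁ D.i₁ W').hom (mapS D.q₂ D.i₂ W').hom (res D.ξ₁ h).hom (res D.ξ₂ h).hom (res D.ξ h).hom
      c₁ c₂ z H₁ H₂ H
  letI : Algebra (fibProd (mapS D.q₁ D.i₁ W).hom (mapS D.q₂ D.i₂ W).hom)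
      (fibProd (mapS D.q₁ D.i₁ W').hom (mapS D.q₂ D.i₂ W').hom) :=
    (fibMap (mapS D.q₁ D.i₁ W).hom (mapS D.q₂ D.i₂ W).hom
      (mapS D.q₁ D.i₁ W').hom (mapS D.q₂ D.i₂ W').hom (res D.ξ₁ h).hom (res D.ξ₂ h).hom (res D.ξ h).hom c₁ c₂).toAlgebra
  haveI := L
  exact IsOpenImmersion.of_isLocalization (S := fibProd (mapS D.q₁ D.i₁ W').hom (mapS D.q₂ D.i₂ W').hom) z

instance isOpenImmersion_map {U V : X.AffineZariskiSite} (f : U ⟶ V) : IsOpenImmersion ((G D).map f) := by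
  obtain ⟨g₀, hg₀⟩ := leOfHom f
  obtain ⟨g, rfl⟩ := (fib_R D (aff V)).1.surj g₀
  exact isOpenImmersion_resR D (site_le f) g hg₀.symm

/-- The points of the closed fibre in the diagram. -/
def τ (U : X.AffineZariskiSite) : Spec Γ(X, U.1) ⟶ (G D).obj U := Spec.map (rdR D (aff U))

lemma τ_naturality {U V : X.AffineZariskiSite} (f : U ⟶ V) :
    τ D U ≫ (G D).map f = Spec.map (X.presheaf.map (homOfLE (site_le f)).op) ≫ τ D V := by
  show Spec.map _ ≫ Spec.map _ = Spec.map _ ≫ Spec.map _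
  rw [← Spec.map_comp, ← Spec.map_comp, resR_rdR]

lemma τ_bijective (U : X.AffineZariskiSite) : Function.Bijective (τ D U).base := SpecMap_rdR_bijective D (aff U)

lemma fromSpec_map_apply {U V : X.AffineZariskiSite} (f : U ⟶ V) (p : Spec Γ(X, U.1)) :
    V.2.fromSpec ((Spec.map (X.presheaf.map (homOfLE (site_le f)).op)) p) = U.2.fromSpec p := by
  rw [← Scheme.Hom.comp_apply, IsAffineOpen.map_fromSpec V.2 U.2]

lemma τ_map_apply {U V : X.AffineZariskiSite} (f : U ⟶ V) (p : Spec Γ(X, U.1)) :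
    (G D).map f (τ D U p) = τ D V ((Spec.map (X.presheaf.map (homOfLE (site_le f)).op)) p) := by
  rw [← Scheme.Hom.comp_apply, τ_naturality]
  rfl

instance isLocallyDirected : (G D ⋙ Scheme.forget).IsLocallyDirected where
  cond {i j l} fi fj xi xj heq := by
    obtain ⟨ri, rfl⟩ := (τ_bijective D i).2 xi
    obtain ⟨rj, rfl⟩ := (τ_bijective D j).2 xj
    have h1 : (G D).map fi (τ D i ri) = (G D).map fj (τ D j rj) := heq
    rw [τ_map_apply, τ_map_apply] at h1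
    have h2 : i.2.fromSpec ri = j.2.fromSpec rj := by
      rw [← fromSpec_map_apply fi, ← fromSpec_map_apply fj, (τ_bijective D l).1 h1]
    have hi : i.2.fromSpec ri ∈ i.1 := i.2.range_fromSpec.le ⟨ri, rfl⟩
    have hj : i.2.fromSpec ri ∈ j.1 := h2 ▸ j.2.range_fromSpec.le ⟨rj, rfl⟩
    obtain ⟨f, g, e, hf⟩ := exists_basicOpen_le_affine_inter i.2 j.2 _ ⟨hi, hj⟩
    let w := i.basicOpen f
    let hwi : w ⟶ i := homOfLE (i.basicOpen_le f)
    let hwj : w ⟶ j := homOfLE (le_of_eq_of_le (Subtype.ext e : w = j.basicOpen g) (j.basicOpen_le g))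
    obtain ⟨r, hr⟩ : i.2.fromSpec ri ∈ Set.range w.2.fromSpec := w.2.range_fromSpec.ge hf
    refine ⟨w, hwi, hwj, τ D w r, ?_, ?_⟩
    · show (G D).map hwi (τ D w r) = τ D i ri
      rw [τ_map_apply]
      refine congrArg _ (i.2.fromSpec.isOpenEmbedding.injective ?_)
      show i.2.fromSpec _ = i.2.fromSpec ri
      rw [fromSpec_map_apply hwi]
      exact hr
    · show (G D).map hwj (τ D w r) = τ D j rj
      rw [τ_map_apply]
      refine congrArg _ (j.2.fromSpec.isOpenEmbedding.injective ?_)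
      show j.2.fromSpec _ = j.2.fromSpec rj
      rw [fromSpec_map_apply hwj]
      exact hr.trans h2

/-- The glued total space. -/
def total : Scheme.{u} := colimit (G D)

/-- The charts. -/
def ι (U : X.AffineZariskiSite) : Spec (R D (aff U)) ⟶ total D := colimit.ι (G D) U

instance (U : X.AffineZariskiSite) : IsOpenImmersion (ι D U) :=
  inferInstanceAs (IsOpenImmersion (colimit.ι (G D) U))

lemma ι_res {U V : X.AffineZariskiSite} (f : U ⟶ V) :
    Spec.map (resR D (W := aff V) (W' := aff U) (site_le f)) ≫ ι D V = ι D U :=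
  colimit.w (G D) f

/-- An affine open as an object of the site. -/
def site (W : Aff X) : X.AffineZariskiSite := ⟨W.1, W.2⟩

/-- The chart of an affine open. -/
def ιW (W : Aff X) : Spec (R D W) ⟶ total D := ι D (site W)

lemma ιW_res {W W' : Aff X} (hs : site W' ≤ site W) (h : W'.1 ≤ W.1) :
    Spec.map (resR D h) ≫ ιW D W = ιW D W' :=
  ι_res D (homOfLE hs)

/-- A map out of the glued scheme. -/
def desc {T : Scheme.{u}} (c : ∀ W : Aff X, Spec (R D W) ⟶ T)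
    (hc : ∀ {W W' : Aff X} (h : W'.1 ≤ W.1), Spec.map (resR D h) ≫ c W = c W') : total D ⟶ T :=
  colimit.desc (G D)
    { pt := T
      ι :=
        { app := fun U => c (aff U)
          naturality := fun U V f => by
            show Spec.map _ ≫ c (aff V) = c (aff U) ≫ 𝟙 T
            rw [hc, Category.comp_id] } }

lemma ιW_desc {T : Scheme.{u}} (c : ∀ W : Aff X, Spec (R D W) ⟶ T)
    (hc : ∀ {W W' : Aff X} (h : W'.1 ≤ W.1), Spec.map (resR D h) ≫ c W = c W') (W : Aff X) :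
    ιW D W ≫ desc D c hc = c W :=
  colimit.ι_desc _ _

lemma total_hom_ext {T : Scheme.{u}} {φ ψ : total D ⟶ T} (h : ∀ W : Aff X, ιW D W ≫ φ = ιW D W ≫ ψ) : φ = ψ :=
  colimit.hom_ext fun U => h (aff U)

/-- The structure morphism. -/
def f : total D ⟶ ArtFun.Art.spec B :=
  desc D (fun W => Spec.map (strR D W)) fun {W W'} h => by rw [← Spec.map_comp, strR_res]

lemma ιW_f (W : Aff X) : ιW D W ≫ f D = Spec.map (strR D W) :=
  ιW_desc D (fun W => Spec.map (strR D W)) (fun {W W'} h => by rw [← Spec.map_comp, strR_res]) W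

lemma flat_f : Flat (f D) := by
  refine (IsZariskiLocalAtSource.iff_of_openCover (P := @Flat) (Scheme.IsLocallyDirected.openCover (G D))).2 fun U => ?_
  show Flat (ιW D (aff U) ≫ f D)
  rw [ιW_f]
  exact Flat.SpecMap_iff.2 (fib_R D (aff U)).1.flat

section Into

variable {A' : ArtFun.Art Λ k} (η : ArtFun.DefSch (Λ := Λ) X x A') (c : ∀ W : Aff X, R D W ⟶ sec η W)
  (hc : ∀ {W W' : Aff X} (h : W'.1 ≤ W.1), resR D h ≫ c W' = c W ≫ res η h)

/-- The affine open of the closed fibre under an affine open of a deformation. -/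
abbrev down (U : η.total.AffineZariskiSite) : Aff X := ⟨η.i ⁻¹ᵁ U.1, U.2.preimage η.i⟩

/-- A map into the glued scheme. -/
def into : η.total ⟶ total D :=
  (Scheme.AffineZariskiSite.isColimitCocone η.total).desc
    { pt := total D
      ι :=
        { app := fun U => Spec.map (c (down η U) ≫ η.total.presheaf.map (homOfLE (up_preimage η U.1).ge).op) ≫
            ιW D (down η U)
          naturality := fun U V g => by
            have hle : U.1 ≤ V.1 := Scheme.AffineZariskiSite.toOpens_mono (leOfHom g)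
            have hs : down η U ≤ down η V := η.i.preimage_mono hle
            have hsite : site (down η U) ≤ site (down η V) := by
              obtain ⟨a, ha⟩ : ∃ a, η.total.basicOpen a = U.1 := leOfHom g
              exact ⟨η.i.app V.1 a, (Scheme.preimage_basicOpen η.i a).symm.trans (congrArg (fun S => η.i ⁻¹ᵁ S) ha)⟩
            show Spec.map (η.total.presheaf.map _) ≫ Spec.map (c (down η V) ≫ _) ≫ ιW D (down η V) =
              (Spec.map (c (down η U) ≫ _) ≫ ιW D (down η U)) ≫ 𝟙 _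
            rw [Category.comp_id, ← ιW_res D hsite (η.i.preimage_mono hle),
              ← Spec.map_comp_assoc, ← Spec.map_comp_assoc, reassoc_of% (hc (η.i.preimage_mono hle)), Category.assoc, res,
              ← Functor.map_comp, ← Functor.map_comp]
            rfl } }

include hc in
lemma fromSpec_into (W : Aff X) :
    (isAffineOpen_up η W.2).fromSpec ≫ into D η c hc = Spec.map (c W) ≫ ιW D W := by
  let U : η.total.AffineZariskiSite := ⟨up η W.1, isAffineOpen_up η W.2⟩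
  have h1 : (isAffineOpen_up η W.2).fromSpec ≫ into D η c hc =
      Spec.map (c (down η U) ≫ η.total.presheaf.map (homOfLE (up_preimage η U.1).ge).op) ≫ ιW D (down η U) :=
    (Scheme.AffineZariskiSite.isColimitCocone η.total).fac _ U
  rw [h1]
  have hle : (down η U).1 ≤ W.1 := (preimage_up η W.1).le
  have hsite : site (down η U) ≤ site W := le_of_eq (Subtype.ext (preimage_up η W.1))
  rw [← ιW_res D hsite hle,
    ← Spec.map_comp_assoc, reassoc_of% (hc hle), res, ← Functor.map_comp]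
  congr 2
  refine (congrArg (fun e => c W ≫ e) ?_).trans (Category.comp_id _)
  exact η.total.presheaf.map_id _

include hc in
lemma into_f (μ : B ⟶ A') (hμ : ∀ W, strR D W ≫ c W = CommRingCat.ofHom μ.toAlgHom.toRingHom ≫ str η W) :
    into D η c hc ≫ f D = η.f ≫ ArtFun.Art.specMap μ := by
  refine hom_ext η fun W => ?_
  rw [reassoc_of% (fromSpec_into D η c hc W), ιW_f, ← Spec.map_comp, hμ, Spec.map_comp, Spec_str, Category.assoc]

end Into

/-- The map from the first corner. -/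
def to₁ : D.ξ₁.total ⟶ total D := into D D.ξ₁ (fstR D) (fun h => resR_fst D h)

/-- The map from the second corner. -/
def to₂ : D.ξ₂.total ⟶ total D := into D D.ξ₂ (sndR D) (fun h => resR_snd D h)

lemma to₁_f : to₁ D ≫ f D = D.ξ₁.f ≫ ArtFun.Art.specMap p₁ :=
  into_f D D.ξ₁ _ _ p₁ (strR_fst D)

lemma to₂_f : to₂ D ≫ f D = D.ξ₂.f ≫ ArtFun.Art.specMap p₂ :=
  into_f D D.ξ₂ _ _ p₂ (strR_snd D)

lemma q_to : D.q₁ ≫ to₁ D = D.q₂ ≫ to₂ D := by
  refine hom_ext D.ξ fun W => ?_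
  rw [← reassoc_of% (mapS_fromSpec D.q₁ D.i₁ W), ← reassoc_of% (mapS_fromSpec D.q₂ D.i₂ W), to₁, to₂, fromSpec_into,
    fromSpec_into, ← Spec.map_comp_assoc, ← Spec.map_comp_assoc, fstR_mapS]

/-- The inclusion of the closed fibre. -/
def i : X ⟶ total D := D.ξ₁.i ≫ to₁ D

lemma i₂_to : D.ξ₂.i ≫ to₂ D = i D := by
  rw [i, ← D.i₁, ← D.i₂, Category.assoc, Category.assoc, q_to]

lemma fromSpec_i (W : Aff X) : W.2.fromSpec ≫ i D = Spec.map (rdR D W) ≫ ιW D W := by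
  rw [i, ← reassoc_of% (IsAffineOpen.SpecMap_appLE_fromSpec D.ξ₁.i (isAffineOpen_up D.ξ₁ W.2) W.2
    (preimage_up D.ξ₁ W.1).ge), to₁, fromSpec_into, ← Spec.map_comp_assoc]
  rfl

lemma preimage_range (U : X.AffineZariskiSite) : i D ⁻¹ᵁ (ι D U).opensRange = U.1 := by
  refine le_antisymm (fun a ha => ?_) (fun a ha => ?_)
  · obtain ⟨W, hW, haW, -⟩ := exists_isAffineOpen_mem_and_subset (X := X) (x := a) (U := ⊤) trivial
    let V : X.AffineZariskiSite := ⟨W, hW⟩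
    obtain ⟨p, rfl⟩ : a ∈ Set.range V.2.fromSpec := V.2.range_fromSpec.ge haW
    obtain ⟨y, hy⟩ := ha
    have h1 : i D (V.2.fromSpec p) = ι D V (τ D V p) := by
      rw [← Scheme.Hom.comp_apply, fromSpec_i D (aff V), Scheme.Hom.comp_apply]
      rfl
    have h2 : colimit.ι (G D) U y = colimit.ι (G D) V (τ D V p) := hy.trans h1
    obtain ⟨w, fU, fV, z, -, hz⟩ := (Scheme.IsLocallyDirected.ι_eq_ι_iff (G D)).1 h2
    obtain ⟨r, rfl⟩ := (τ_bijective D w).2 z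
    rw [τ_map_apply] at hz
    rw [← (τ_bijective D V).1 hz, fromSpec_map_apply fV]
    exact site_le fU (w.2.range_fromSpec.le ⟨r, rfl⟩)
  · obtain ⟨p, rfl⟩ : a ∈ Set.range U.2.fromSpec := U.2.range_fromSpec.ge ha
    refine ⟨τ D U p, ?_⟩
    show ι D U (τ D U p) = (U.2.fromSpec ≫ i D) p
    exact (congr(($(fromSpec_i D (aff U))) p)).symm

lemma i_f : i D ≫ f D = x ≫ ArtFun.Art.specRes B := by
  rw [i, Category.assoc, to₁_f, ← Category.assoc, D.ξ₁.i_f, Category.assoc, ArtFun.Art.specRes_comp]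

lemma isPullback_i : IsPullback (i D) x (f D) (ArtFun.Art.specRes B) := by
  refine Scheme.isPullback_of_openCover _ _ _ _ (Scheme.IsLocallyDirected.openCover (G D)) fun U => ?_
  have h1 : IsPullback (Spec.map (rdR D (aff U))) U.2.fromSpec (ι D U) (i D) := by
    refine IsOpenImmersion.isPullback _ _ _ _ (fromSpec_i D (aff U)) ?_
    rw [preimage_range, IsAffineOpen.opensRange_fromSpec]
  have h2 : IsPullback (Spec.map (rdR D (aff U))) (Spec.map (str₀ (x := x) (aff U))) (Spec.map (strR D (aff U)))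
      (ArtFun.Art.specRes B) := by
    have h := (fib_R D (aff U)).1
    refine (isPullback_SpecMap_of_isPushout _ _ _ _ (DefLib.isPushout_of_surjective
      (CommRingCat.ofHom B.res.toRingHom) (strR D (aff U)) (str₀ (x := x) (aff U)) (rdR D (aff U))
      (by ext a; exact (h.comm a).symm) B.res_surjective h.surj ?_)).flip
    refine le_of_le_of_eq h.ker ?_
    exact congrArg (Ideal.map _) (ker_res B).symm
  let e := h1.flip.isoPullback
  refine h2.of_iso e (Iso.refl _) (Iso.refl _) (Iso.refl _) ?_ ?_ ?_ ?_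
  · show Spec.map (rdR D (aff U)) ≫ 𝟙 _ = e.hom ≫ pullback.snd (i D) (ι D U)
    rw [Category.comp_id, IsPullback.isoPullback_hom_snd]
  · show Spec.map (str₀ (x := x) (aff U)) ≫ 𝟙 _ = e.hom ≫ (pullback.fst (i D) (ι D U) ≫ x)
    rw [Category.comp_id, IsPullback.isoPullback_hom_fst_assoc, str₀, Spec.map_preimage]
  · show Spec.map (strR D (aff U)) ≫ 𝟙 _ = 𝟙 _ ≫ (ιW D (aff U) ≫ f D)
    rw [Category.comp_id, Category.id_comp, ιW_f]
  · simp

/-- The glued deformation. -/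
def glue : ArtFun.DefSch (Λ := Λ) X x B where
  total := total D
  f := f D
  flat := flat_f D
  i := i D
  isPullback := isPullback_i D

theorem nonempty_iso₁ : Nonempty (((glue D).baseChange p₁).Iso D.ξ₁) :=
  nonempty_iso_baseChange (glue D) p₁ D.ξ₁ (to₁ D) (to₁_f D) rfl

theorem nonempty_iso₂ : Nonempty (((glue D).baseChange p₂).Iso D.ξ₂) :=
  nonempty_iso_baseChange (glue D) p₂ D.ξ₂ (to₂ D) (to₂_f D) (i₂_to D)

/-- Two maps to the corners as a map into the sections of the glued deformation. -/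
def dR (η : ArtFun.DefSch (Λ := Λ) X x B) (r₁ : D.ξ₁.total ⟶ η.total) (r₂ : D.ξ₂.total ⟶ η.total)
    (h₁ : D.ξ₁.i ≫ r₁ = η.i) (h₂ : D.ξ₂.i ≫ r₂ = η.i) (hq : D.q₁ ≫ r₁ = D.q₂ ≫ r₂) (W : Aff X) :
    sec η W ⟶ R D W :=
  liftR D (mapS r₁ h₁ W) (mapS r₂ h₂ W) (by
    rw [mapS, mapS, mapS, mapS, Scheme.Hom.appLE_comp_appLE, Scheme.Hom.appLE_comp_appLE]
    simp only [hq])

/-- A deformation over the fibre product receiving compatible maps is the glued one, compatibly. -/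
theorem exists_glueIso (η : ArtFun.DefSch (Λ := Λ) X x B) (r₁ : D.ξ₁.total ⟶ η.total) (r₂ : D.ξ₂.total ⟶ η.total)
    (h₁ : D.ξ₁.i ≫ r₁ = η.i) (h₂ : D.ξ₂.i ≫ r₂ = η.i) (o₁ : r₁ ≫ η.f = D.ξ₁.f ≫ ArtFun.Art.specMap p₁)
    (o₂ : r₂ ≫ η.f = D.ξ₂.f ≫ ArtFun.Art.specMap p₂) (hq : D.q₁ ≫ r₁ = D.q₂ ≫ r₂) :
    ∃ e : (glue D).Iso η, to₁ D ≫ e.iso.hom = r₁ ∧ to₂ D ≫ e.iso.hom = r₂ ∧ ∀ W : Aff X,
      ιW D W ≫ e.iso.hom = Spec.map (dR D η r₁ r₂ h₁ h₂ hq W) ≫ (isAffineOpen_up η W.2).fromSpec := by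
  have hres : ∀ {W W' : Aff X} (h : W'.1 ≤ W.1),
      res η h ≫ dR D η r₁ r₂ h₁ h₂ hq W' = dR D η r₁ r₂ h₁ h₂ hq W ≫ resR D h := fun {W W'} h => by
    refine ext_R D ?_ ?_
    · rw [Category.assoc, Category.assoc, resR_fst, dR, liftR_fst, dR,
        reassoc_of% (liftR_fst D (mapS r₁ h₁ W) _ _), res_mapS]
    · rw [Category.assoc, Category.assoc, resR_snd, dR, liftR_snd, dR,
        reassoc_of% (liftR_snd D (mapS r₁ h₁ W) _ _), res_mapS]
  let θ : total D ⟶ η.total :=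
    desc D (fun W => Spec.map (dR D η r₁ r₂ h₁ h₂ hq W) ≫ (isAffineOpen_up η W.2).fromSpec) fun {W W'} h => by
      rw [← Spec.map_comp_assoc, ← hres h, Spec.map_comp_assoc, res_fromSpec]
  have hθ : ∀ W : Aff X, ιW D W ≫ θ = Spec.map (dR D η r₁ r₂ h₁ h₂ hq W) ≫ (isAffineOpen_up η W.2).fromSpec :=
    fun W => ιW_desc D _ _ W
  have ht₁ : to₁ D ≫ θ = r₁ := by
    refine hom_ext D.ξ₁ fun W => ?_
    rw [to₁, reassoc_of% (fromSpec_into D D.ξ₁ (fstR D) (fun {W W'} h => resR_fst D h) W), hθ, ← Spec.map_comp_assoc,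
      dR, liftR_fst, mapS_fromSpec]
  have ht₂ : to₂ D ≫ θ = r₂ := by
    refine hom_ext D.ξ₂ fun W => ?_
    rw [to₂, reassoc_of% (fromSpec_into D D.ξ₂ (sndR D) (fun {W W'} h => resR_snd D h) W), hθ, ← Spec.map_comp_assoc,
      dR, liftR_snd, mapS_fromSpec]
  refine ⟨isoOfHom (glue D) θ ?_ ?_, ht₁, ht₂, hθ⟩
  · refine total_hom_ext D fun W => ?_
    show ιW D W ≫ θ ≫ η.f = ιW D W ≫ f D
    rw [← Category.assoc, hθ, ιW_f, Category.assoc, ← Spec_str, ← Spec.map_comp]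
    congr 1
    refine ext_R D ?_ ?_
    · rw [Category.assoc, dR, liftR_fst, strR_fst, str_mapS p₁ r₁ h₁ o₁]
    · rw [Category.assoc, dR, liftR_snd, strR_snd, str_mapS p₂ r₂ h₂ o₂]
  · show (D.ξ₁.i ≫ to₁ D) ≫ θ = η.i
    rw [Category.assoc, ht₁, h₁]

/-- A deformation over the fibre product receiving compatible maps is the glued one. -/
theorem nonempty_iso_glue (η : ArtFun.DefSch (Λ := Λ) X x B) (r₁ : D.ξ₁.total ⟶ η.total) (r₂ : D.ξ₂.total ⟶ η.total)
    (h₁ : D.ξ₁.i ≫ r₁ = η.i) (h₂ : D.ξ₂.i ≫ r₂ = η.i) (o₁ : r₁ ≫ η.f = D.ξ₁.f ≫ ArtFun.Art.specMap p₁)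
    (o₂ : r₂ ≫ η.f = D.ξ₂.f ≫ ArtFun.Art.specMap p₂) (hq : D.q₁ ≫ r₁ = D.q₂ ≫ r₂) :
    Nonempty ((glue D).Iso η) :=
  ⟨(exists_glueIso D η r₁ r₂ h₁ h₂ o₁ o₂ hq).choose⟩

/-- Morphisms under the closed fibre out of a deformation over a fibre product are determined on the corners. -/
theorem hom_ext_corner (η : ArtFun.DefSch (Λ := Λ) X x B) {C : ArtFun.Art Λ k} (η' : ArtFun.DefSch (Λ := Λ) X x C)
    (r₁ : D.ξ₁.total ⟶ η.total) (r₂ : D.ξ₂.total ⟶ η.total) (h₁ : D.ξ₁.i ≫ r₁ = η.i) (h₂ : D.ξ₂.i ≫ r₂ = η.i)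
    (o₁ : r₁ ≫ η.f = D.ξ₁.f ≫ ArtFun.Art.specMap p₁) (o₂ : r₂ ≫ η.f = D.ξ₂.f ≫ ArtFun.Art.specMap p₂)
    (hq : D.q₁ ≫ r₁ = D.q₂ ≫ r₂) (φ ψ : η.total ⟶ η'.total) (hφ : η.i ≫ φ = η'.i) (hψ : η.i ≫ ψ = η'.i)
    (e₁ : r₁ ≫ φ = r₁ ≫ ψ) (e₂ : r₂ ≫ φ = r₂ ≫ ψ) : φ = ψ := by
  obtain ⟨e, -, -, he⟩ := exists_glueIso D η r₁ r₂ h₁ h₂ o₁ o₂ hq
  rw [← cancel_epi e.iso.hom]
  refine total_hom_ext D fun W => ?_
  show ιW D W ≫ e.iso.hom ≫ φ = ιW D W ≫ e.iso.hom ≫ ψ
  have key : ∀ (χ : η.total ⟶ η'.total) (hχ : η.i ≫ χ = η'.i), ιW D W ≫ e.iso.hom ≫ χ =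
      Spec.map (mapS χ hχ W ≫ dR D η r₁ r₂ h₁ h₂ hq W) ≫ (isAffineOpen_up η' W.2).fromSpec := fun χ hχ => by
    rw [← Category.assoc, he, Spec.map_comp_assoc, mapS_fromSpec, Category.assoc]
  rw [key φ hφ, key ψ hψ]
  congr 2
  refine ext_R D ?_ ?_
  · rw [Category.assoc, Category.assoc, dR, liftR_fst, mapS, mapS, mapS, Scheme.Hom.appLE_comp_appLE,
      Scheme.Hom.appLE_comp_appLE]
    simp only [e₁]
  · rw [Category.assoc, Category.assoc, dR, liftR_snd, mapS, mapS, mapS, Scheme.Hom.appLE_comp_appLE,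
      Scheme.Hom.appLE_comp_appLE]
    simp only [e₂]

end DefGlueLib
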