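import Groth.Agent.DefGlueLib.Hfin
import Groth.Agent.CotTLib.Exal
import Groth.Agent.ArtLib.Torsor
import Groth.Agent.ArtLib.SmallExt

/-!
# Rigid algebras have no deformations
-/

set_option autoImplicit false
set_option maxHeartbeats 1000000
set_option linter.unusedSectionVars false
set_option backward.isDefEq.respectTransparency false

universe u v

open CategoryTheory

noncomputable section

namespace DefGlueLib

open ArtFun ArtFun.Art

/-- `T¹` vanishes when all extensions are trivial. -/
theorem subsingleton_T1_of_isTrivial {A B M : Type u} [CommRing A] [CommRing B] [Algebra A B] [AddCommGroup M]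
    [Module B M] {ι σ : Type u} (P : Algebra.Presentation A B ι σ) (h : ∀ X : Exal.Ext A B M, X.IsTrivial) :
    Subsingleton (CotT.T1 P M) := by
  refine subsingleton_of_forall_eq 0 fun t => ?_
  obtain ⟨c, rfl⟩ := (CotTLib.exalToT1_bijective (P := P) (M := M)).2 t
  obtain ⟨X, rfl⟩ := Quotient.exists_rep c
  obtain ⟨s, hs⟩ := h X
  have hl : CotTLib.IsLift (P := P) X (fun i => s (P.val i)) := fun i => hs _
  show CotTLib.classOf (P := P) X = 0
  rw [show CotTLib.classOf (P := P) X = Submodule.Quotient.mk (CotTLib.coc _ hl) from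
    CotTLib.coc_class_eq _ _ (CotTLib.someLift_spec X) hl, Submodule.Quotient.mk_eq_zero]
  have hc : CotTLib.coc _ hl = 0 := by
    refine Subtype.ext ((CotT.L1basis P).ext fun j => X.isExtension.incl_injective ?_)
    show X.incl (CotTLib.cocFun _ hl _) = X.incl 0
    rw [CotTLib.cocFun, Module.Basis.constr_basis, Exal.Ext.incl_kerLift, map_zero]
    have hlm : ∀ r, CotTLib.liftHom (P := P) (fun i => s (P.val i)) r = s (algebraMap P.toExtension.Ring B r) :=
      fun r => by
        induction r using CotTLib.ring_induction (P := P) with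
        | hC c =>
          rw [AlgHom.commutes, ← IsScalarTower.algebraMap_apply, AlgHom.commutes]
        | hadd p q hp hq => rw [map_add, map_add, hp, hq, map_add]
        | hmul p i hp =>
          rw [map_mul, map_mul, hp, map_mul]
          refine congrArg (_ * ·) ?_
          refine (MvPolynomial.aeval_X _ i).trans (congrArg s ?_)
          rw [CotT.algebraMap_toExtension]
          exact (MvPolynomial.aeval_X _ i).symm
    rw [hlm, show algebraMap P.toExtension.Ring B (CotT.rel P j) = 0 from CotT.algebraMap_rel P j, map_zero]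
  rw [hc]
  exact Submodule.zero_mem _

variable {Λ : Type u} {k : Type u} [CommRing Λ] [Field k] [Algebra Λ k] [IsNoetherianRing Λ] [Module.Finite Λ k]

/-- A functor with trivial tangent space has at most one element everywhere. -/
theorem subsingleton_obj_of_tangent {F : Art Λ k ⥤ Type v} (h0 : H0 F) (h1 : S1 F) (h2 : Heps F)
    (hT : Subsingleton (F.obj (dual Λ k))) (A : Art Λ k) : Subsingleton (F.obj A) := by
  refine ArtLib.surjective_induction (fun A B _ => Subsingleton (F.obj A) → Subsingleton (F.obj B)) ?_ ?_ ?_
    (toBase A) A.res_surjective h0.2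
  · intro A B e he hA
    exact (F.mapIso (asIso e)).toEquiv.subsingleton
  · intro A B p hp hA
    obtain ⟨t, P, q₁, q₂, a, -, hP, hsq, -, s, hs₁, hs₂, hs₃⟩ := ArtLib.exists_act_square hp
    refine ⟨fun y y' => ?_⟩
    obtain ⟨z, hz₁, hz₂⟩ := (ArtLib.cmp_surjective_iff F hsq).1 (h1 _ _ _ _ hsq hp.1) y y' (hA.elim _ _)
    have hz : z = F.map s y := (ArtLib.cmp_injective_iff F hP).1 (h2 _ _ hP).1 z (F.map s y)
      (by rw [← ArtLib.map_comp_apply, hs₁, hz₁, F.map_id]; rfl) (hT.elim _ _)
    rw [← hz₂, hz, ← ArtLib.map_comp_apply, hs₃, F.map_id]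
    rfl
  · exact fun A B C p q hp hq hA => hp (hq hA)

end DefGlueLib
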